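import Cfsg.Agent.Lib.LocalEven.CommonCore.Layer

/-!
# A common core: no bad walk, and a subgroup invariant in all vertices at an edge
-/

set_option autoImplicit false
set_option linter.all false

namespace CfsgLib.CommonCore

open Subgroup CfsgLib.PushUp
open CfsgLib.PushFam (Bad Vx)
open scoped commutatorElement

variable {W : Type*} [Group W] [Finite W] {p : ℕ} [Fact p.Prime] {vs : ℕ → Vx W} {fs : ℕ → Subgroup W} {b : ℕ}

theorem double_comm_sup {G X X0 Y : Subgroup W} {x x' : W} (hxG : x ∈ G) (hxG' : x' ∈ G) (hY : Stable G Y)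
    (hYG : Y ≤ G) (hX0G : X0 ≤ G) (hle : X ≤ X0 ⊔ Y) (h0 : ∀ d ∈ X0, ⁅⁅d, x⁆, x'⁆ ∈ Y) :
    ∀ d ∈ X, ⁅⁅d, x⁆, x'⁆ ∈ Y := by
  intro d hd
  have hd' := hle hd
  rw [← SetLike.mem_coe, Subgroup.coe_mul_of_left_le_normalizer_right _ _
    (hX0G.trans (CfsgLib.PushFam.st_le_normalizer hY))] at hd'
  obtain ⟨d0, hd0, y, hy, rfl⟩ := hd'
  show ⁅⁅d0 * y, x⁆, x'⁆ ∈ Y
  have h1 : d0 * ⁅y, x⁆ * d0⁻¹ ∈ Y := hY d0 (hX0G hd0) _ (hY.comm_left hxG hy)
  rw [mul_comm', mul_comm']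
  exact mul_mem (hY _ (hYG h1) _ (h0 d0 hd0)) (hY.comm_left hxG' h1)

/-- The last module is quadratic on the chief factors inside the first core. -/
theorem Crit.quadratic (h : Crit p vs fs b) (hp2 : p ≠ 2) {X Y : Subgroup W} (hX : Stable (vs 0).G X)
    (hY : Stable (vs 0).G Y) (hYX : Y ≤ X) (hXQ : X ≤ (vs 0).Q)
    (hmin : ∀ N : Subgroup W, Stable (vs 0).G N → Y ≤ N → N ≤ X → N = Y ∨ N = X)
    {x x' : W} (hx : x ∈ (vs b).Z) (hx' : x' ∈ (vs b).Z) : ∀ d ∈ X, ⁅⁅d, x⁆, x'⁆ ∈ Y := by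
  have hI := h.inc_l h.pos
  have hxG := h.last_le_G hx
  have hxG' := h.last_le_G hx'
  have hXG : X ≤ (vs 0).G := hXQ.trans hI.QG
  have hYG : Y ≤ (vs 0).G := hYX.trans hXG
  have eX : ∀ {d : W}, d ∈ X → ⁅⁅d, x⁆, x'⁆ ∈ X := fun hd => hX.comm_left hxG' (hX.comm_left hxG hd)
  -- either a stable subgroup meets `X` inside `Y`, or it covers `X` modulo `Y`
  have hcases : ∀ {L : Subgroup W}, Stable (vs 0).G L → X ⊓ L ≤ Y ∨ X ≤ (X ⊓ L) ⊔ Y := by
    intro L hL
    have hst : Stable (vs 0).G ((X ⊓ L) ⊔ Y) := by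
      intro g hg m hm
      rw [sup_eq_closure] at hm ⊢
      induction hm using closure_induction with
      | mem r hr =>
        refine subset_closure ?_
        rcases hr with hr | hr
        · exact Or.inl ⟨hX g hg r hr.1, hL g hg r hr.2⟩
        · exact Or.inr (hY g hg r hr)
      | one => simp
      | mul r s _ _ hr hs => simpa [mul_assoc] using mul_mem hr hs
      | inv r _ hr => simpa [mul_assoc] using inv_mem hr
    rcases hmin _ hst le_sup_right (sup_le inf_le_left hYX) with e | e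
    · exact Or.inl (le_sup_left.trans e.le)
    · exact Or.inr e.ge
  obtain ⟨k, hk⟩ : ∃ k, k = (b - 1) / 2 := ⟨_, rfl⟩
  have hpos := h.pos
  suffices key : ∀ n j, j + n = k → X ≤ (X ⊓ Dt vs j) ⊔ Y → ∀ d ∈ X, ⁅⁅d, x⁆, x'⁆ ∈ Y by
    refine key k 0 (Nat.zero_add k) (le_trans (le_inf le_rfl ?_) le_sup_left)
    refine le_inf hXQ fun d hd => mem_centralizer_iff.2 fun w hw => ?_
    have hW : Wt vs 0 ≤ (vs 0).Z := by
      refine (closure_le _).2 ?_
      rintro w ⟨g, hg, i, hi, hw⟩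
      obtain rfl : i = 0 := by omega
      have := hI.Zn g hg _ hw
      simpa [mul_assoc] using this
    exact hI.Zc (hW hw) (hXQ hd)
  intro n
  induction n with
  | zero =>
    rintro j rfl hle
    rw [Nat.add_zero] at hk
    refine double_comm_sup hxG hxG' hY hYG (inf_le_left.trans hXG) hle fun d hd => ?_
    have hdG : d ∈ (vs (j + 1)).G := (h.inc_r (by omega)).PG (h.Dt_path le_rfl (by omega) hd.2).2
    have he := (h.ball (m := j + 1) (by omega) (by omega) hdG hx hx').1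
    rcases hcases hI.Zn with hc | hc
    · exact hc ⟨eX hd.1, he⟩
    · refine double_comm_sup hxG hxG' hY hYG (inf_le_left.trans hXG) hc (fun z hz => ?_) d hd.1
      have h1 : ⁅x, z⁆ ∈ om p (fs 0) := hI.quad (h.last_le_edge h.pos hx) hz.2
      have h2 : ⁅z, x⁆ ∈ om p (fs 0) := commutatorElement_inv x z ▸ inv_mem h1
      rw [comm_one_iff.2 (h2.2.1 x' (h.last_le_edge h.pos hx')).symm]
      exact one_mem _
  | succ n ih =>
    intro j hjn hle
    have hj : 2 * (j + 1) < b := by omega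
    obtain ⟨B, ⟨hBn, hBW, hBX⟩, hBmin⟩ := Set.Finite.exists_minimal
      (s := {B : Subgroup W | Stable (vs 0).G B ∧ B ≤ Wt vs j ∧ X ≤ (X ⊓ lay h hj B) ⊔ Y}) (Set.toFinite _)
      ⟨Wt vs j, Wt_stable j, le_rfl, hle.trans (sup_le_sup_right (inf_le_inf_left _
        fun d hd => (mem_lay (h := h) (hj := hj)).2 ⟨hd, fun w hw => h.Dt_comm_Wt hj hd hw⟩) _)⟩
    by_cases hB : B = ⊥
    · refine ih (j + 1) (by omega) (hBX.trans (sup_le_sup_right (inf_le_inf_left _ fun d hd => ?_) _))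
      refine ⟨hd.1.1, mem_centralizer_iff.2 fun w hw => ?_⟩
      have := hd.2 w hw
      rw [hB, mem_bot, comm_one_iff] at this
      exact this.symm
    obtain ⟨B', ⟨hB'n, hlt⟩, hB'max⟩ := Set.Finite.exists_maximal
      (s := {N : Subgroup W | Stable (vs 0).G N ∧ N < B}) (Set.toFinite _)
      ⟨⊥, fun g _ m hm => by rw [mem_bot] at hm ⊢; rw [hm, mul_one, mul_inv_cancel], bot_lt_iff_ne_bot.2 hB⟩
    have hminB : ∀ N : Subgroup W, Stable (vs 0).G N → B' ≤ N → N ≤ B → N = B' ∨ N = B := fun N hN h1 h2 => by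
      rcases h2.lt_or_eq with h3 | h3
      · exact Or.inl (le_antisymm (hB'max ⟨hN, h3⟩ h1) h1)
      · exact Or.inr h3
    have hno : X ⊓ lay h hj B' ≤ Y := (hcases (lay_stable h hj hB'n)).resolve_right fun hc =>
      hlt.not_ge (hBmin ⟨hB'n, hlt.le.trans hBW, hc⟩ hlt.le)
    exact double_comm_sup hxG hxG' hY hYG (inf_le_left.trans hXG) hBX fun d hd =>
      hno ⟨eX hd.1, h.step hj hp2 hBW hBn hB'n hlt hminB hd.2 hx hx'⟩

/-- No module escapes a core along a walk. -/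
theorem walk_zq (hp2 : p ≠ 2) : ∀ (b : ℕ) (vs : ℕ → Vx W) (fs : ℕ → Subgroup W), 0 < b → Walk p vs fs b →
    (vs 0).Z ≤ (vs b).Q := by
  intro b
  induction b using Nat.strong_induction_on with
  | _ b ih =>
    intro vs fs hb hw
    by_contra hn
    have h : Crit p vs fs b := ⟨hw, hb, fun c vs' fs' hc hcb hw' => ih c hcb vs' fs' hc hw', hn⟩
    obtain ⟨x, hx, hxQ⟩ := SetLike.not_le_iff_exists.1 h.nle'
    obtain ⟨X, Y, hX, hY, hYX, hXQ, hmin, d, hd, u, hu, w, hw, hne⟩ :=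
      (h.inc_l hb).bad x (h.last_le_edge hb hx) hxQ
    exact hne (h.quadratic hp2 hX hY hYX hXQ hmin (zpowers_le.2 hx hu) (zpowers_le.2 hx hw) d hd)

theorem Reach.zq (hp2 : p ≠ 2) {u v : Vx W} {P : Subgroup W} (hv : Inc p v P) (h : Reach p u v) :
    u.Z ≤ v.Q := by
  obtain ⟨b, vs, fs, hw, h0, h1⟩ := h
  rcases Nat.eq_zero_or_pos b with rfl | hb
  · rw [← h0, h1]; exact hv.ZQ
  · exact h0 ▸ h1 ▸ walk_zq hp2 b vs fs hb hw

/-- A nontrivial subgroup of the edge which every vertex at the edge normalizes. -/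
theorem exists_inv (hp2 : p ≠ 2) {T0 : Subgroup W} {v0 : Vx W} (h0 : Inc p v0 T0) :
    ∃ T : Subgroup W, T ≤ T0 ∧ T ≠ ⊥ ∧ ∀ v : Vx W, Inc p v T0 → Stable v.G T := by
  obtain ⟨T, hT⟩ : ∃ T : Subgroup W, T = closure {z | ∃ u, Reach p u v0 ∧ z ∈ u.Z} := ⟨_, rfl⟩
  refine ⟨T, ?_, ?_, fun v hv g hg t ht => ?_⟩
  · rw [hT, closure_le]
    rintro z ⟨u, hu, hz⟩
    exact h0.QP (hu.zq hp2 h0 hz)
  · intro e
    refine h0.om_ne_bot (eq_bot_iff.2 fun z hz => e ▸ hT.ge (subset_closure ⟨v0, Reach.refl v0, h0.om_le_Z hz⟩))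
  · rw [hT] at ht ⊢
    induction ht using closure_induction with
    | mem z hz =>
      obtain ⟨u, hu, hz⟩ := hz
      refine subset_closure ⟨u.tr g, ?_, conj_mem_cj hz⟩
      have h1 : Reach p (u.tr g) (v0.tr g) := hu.tr g
      have h2 : Reach p (v0.tr g) v := Reach.of_edge (h0.tr g) (hv.conj hg)
      exact (h1.trans h2).trans (Reach.of_edge hv h0)
    | one => simp
    | mul r s _ _ hr hs => simpa [mul_assoc] using mul_mem hr hs
    | inv r _ hr => simpa [mul_assoc] using inv_mem hr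

end CfsgLib.CommonCore
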