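import Cfsg.Agent.Lib.LocalEven.CommonCore.Failure
import Cfsg.Agent.Lib.LocalEvenB.PushFam.Cases

/-!
# A common core: control of transfer by the centre and the common core of `J̃`
-/

set_option autoImplicit false
set_option linter.all false

namespace CfsgLib.CommonCore

open Subgroup Cfsg CfsgLib.Transfer3 CfsgLib.LocalEven CfsgLib.LocalEven.JMeasure
open CfsgLib.Techniques (inducedSet transferPart familyTransfer_of_sections isSec_self familyControlsTransfer_of_le)
open scoped commutatorElement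

universe u

/-- `Q ↦ Z(Q)` -/
def cFun : ∀ (Q : Type u) [Group Q], Subgroup Q := fun Q _ => Subgroup.center Q

variable {p : ℕ} [Fact p.Prime]

theorem cFun_isCharPFunctor : IsCharPFunctor.{u} p cFun := by
  refine ⟨fun Q _ _ hQ hn h => ?_, fun Q R _ _ _ _ φ => ?_⟩
  · haveI := hn
    haveI := hQ.center_nontrivial
    exact ((Subgroup.nontrivial_iff_ne_bot (Subgroup.center Q)).1 this) h
  · show (Subgroup.center Q).map φ.toMonoidHom = Subgroup.center R
    rw [CfsgLib.PushFam.map_center' φ.injective, MonoidHom.range_eq_top.2 φ.surjective, top_inf_eq, coe_top,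
      centralizer_univ]

theorem cFun_induced {G : Type u} [Group G] (T : Subgroup G) :
    inducedFunctor (G := G) cFun T = T ⊓ centralizer (T : Set G) := by
  show (Subgroup.center ↥T).map T.subtype = _
  rw [CfsgLib.PushFam.map_center' T.subtype_injective, T.range_subtype]

/-- The family `{Z, coreK ∘ J̃}`. -/
def family (p : ℕ) : Set (∀ (Q : Type u) [Group Q], Subgroup Q) :=
  {W | W = cFun ∨ W = jFun (coreK p)}

theorem family_func (hp : p ≠ 2) : ∀ W ∈ family.{u} p, IsCharPFunctor.{u} p W := by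
  rintro W (rfl | rfl)
  · exact cFun_isCharPFunctor
  · exact jFun_isCharPFunctor (coreK_isCharPFunctor hp)

/-- If the elements of order `p` of `Z(S)` are central, so is `Z(S)`. -/
theorem center_central {G : Type u} [Group G] [Finite G] (S : Sylow p G)
    (hC : centralizer (pCore p G : Set G) ≤ pCore p G)
    (h : ∀ z ∈ (S : Subgroup G) ⊓ centralizer ((S : Subgroup G) : Set G), z ^ p = 1 → ∀ g : G, g * z = z * g) :
    ∀ z ∈ (S : Subgroup G) ⊓ centralizer ((S : Subgroup G) : Set G), ∀ g : G, g * z = z * g := by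
  classical
  haveI hQn := CfsgLib.Core.normal_pCore p G
  obtain ⟨Z, hZ⟩ : ∃ Z, Z = (S : Subgroup G) ⊓ centralizer ((S : Subgroup G) : Set G) := ⟨_, rfl⟩
  rw [← hZ] at h ⊢
  obtain ⟨A, hA⟩ : ∃ A, A = pCore p G ⊓ centralizer (pCore p G : Set G) := ⟨_, rfl⟩
  haveI : A.Normal := hA ▸ Subgroup.normal_inf_normal _ _
  have hAab : ∀ a ∈ A, ∀ b ∈ A, a * b = b * a := fun a ha b hb =>
    mem_centralizer_iff.1 (hA.le hb).2 a (hA.le ha).1
  letI : CommGroup ↥A := { (inferInstance : Group ↥A) with
    mul_comm := fun a b => Subtype.ext (hAab a a.2 b b.2) }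
  have hcS : ∀ z ∈ Z, ∀ s ∈ (S : Subgroup G), s * z = z * s := fun z hz s hs =>
    mem_centralizer_iff.1 (hZ.le hz).2 s hs
  have hZA : Z ≤ A := fun z hz => by
    have hzc : z ∈ centralizer (pCore p G : Set G) :=
      mem_centralizer_iff.2 fun q hq => hcS z hz q (CfsgLib.Core.pCore_le_sylow S hq)
    exact hA.ge ⟨hC hzc, hzc⟩
  haveI : Fintype (G ⧸ (S : Subgroup G)) := Fintype.ofFinite _
  let f : ↥Z → G ⧸ (S : Subgroup G) → ↥A := fun z q =>
    Quotient.liftOn' q (fun g => (⟨g * z * g⁻¹, (inferInstance : A.Normal).conj_mem _ (hZA z.2) g⟩ : ↥A))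
      fun a b hab => Subtype.ext (by
        rw [QuotientGroup.leftRel_apply] at hab
        have h1 : (a⁻¹ * b) * z = z * (a⁻¹ * b) := hcS z z.2 _ hab
        show a * z * a⁻¹ = b * z * b⁻¹
        calc a * z * a⁻¹ = a * (z * (a⁻¹ * b)) * b⁻¹ := by group
          _ = a * ((a⁻¹ * b) * z) * b⁻¹ := by rw [h1]
          _ = _ := by group)
  let N : ↥Z →* ↥A :=
    { toFun := fun z => ∏ q, f z q
      map_one' := Finset.prod_eq_one fun q _ => Quotient.inductionOn' q fun g => Subtype.ext (by
        show g * ((1 : ↥Z) : G) * g⁻¹ = 1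
        simp)
      map_mul' := fun z w => by
        rw [← Finset.prod_mul_distrib]
        refine Finset.prod_congr rfl fun q _ => Quotient.inductionOn' q fun g => Subtype.ext ?_
        show g * ((z : G) * w) * g⁻¹ = g * z * g⁻¹ * (g * w * g⁻¹)
        group }
  have hfix : ∀ (z : ↥Z) (g : G), g * (N z : G) = (N z : G) * g := by
    intro z g
    let φ : ↥A →* ↥A := (MulAut.conjNormal g).toMonoidHom
    have h1 : φ (N z) = N z := by
      show φ (∏ q, f z q) = ∏ q, f z q
      rw [map_prod]
      refine Fintype.prod_equiv (MulAction.toPerm g) _ _ fun q => Quotient.inductionOn' q fun a => Subtype.ext ?_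
      show g * (a * z * a⁻¹) * g⁻¹ = (g * a) * z * (g * a)⁻¹
      group
    have h2 : g * (N z : G) * g⁻¹ = (N z : G) := congrArg Subtype.val h1
    exact mul_inv_eq_iff_eq_mul.1 h2
  have hNZ : ∀ z : ↥Z, (N z : G) ∈ Z := fun z => hZ.ge
    ⟨CfsgLib.Core.pCore_le_sylow S (hA.le (N z).2).1, mem_centralizer_iff.2 fun s _ => hfix z s⟩
  let N' : ↥Z →* ↥Z := (A.subtype.comp N).codRestrict Z hNZ
  have hinj : Function.Injective N' := by
    rw [← MonoidHom.ker_eq_bot_iff]
    by_contra hne
    obtain ⟨k, hk⟩ := exists_prime_orderOf_dvd_card' (G := ↥N'.ker) p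
      (((S.2.to_le (hZ.le.trans inf_le_left)).to_subgroup N'.ker).card_eq_or_dvd.resolve_left fun e =>
        hne (Subgroup.card_eq_one.1 e))
    have hkp : ((k : ↥Z) : G) ^ p = 1 := by
      have := congrArg (fun t : ↥N'.ker => ((t : ↥Z) : G)) (pow_orderOf_eq_one k)
      simpa [hk] using this
    have hcen := h _ (k : ↥Z).2 hkp
    have hN : N (k : ↥Z) = (⟨_, hZA (k : ↥Z).2⟩ : ↥A) ^ Fintype.card (G ⧸ (S : Subgroup G)) := by
      show ∏ q, f (k : ↥Z) q = _
      rw [← Finset.card_univ, ← Finset.prod_const]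
      refine Finset.prod_congr rfl fun q _ => Quotient.inductionOn' q fun g => Subtype.ext ?_
      show g * ((k : ↥Z) : G) * g⁻¹ = ((k : ↥Z) : G)
      rw [hcen g, mul_inv_cancel_right]
    have h1 : N (k : ↥Z) = 1 := Subtype.ext (congrArg (fun t : ↥Z => (t : G)) (MonoidHom.mem_ker.1 k.2))
    rw [h1] at hN
    have h2 : ((k : ↥Z) : G) ^ (S : Subgroup G).index = 1 := by
      rw [Subgroup.index, Nat.card_eq_fintype_card]
      exact (congrArg Subtype.val hN).symm
    have h3 : Nat.gcd p (S : Subgroup G).index = 1 :=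
      (Nat.Prime.coprime_iff_not_dvd Fact.out).2 S.not_dvd_index
    have h4 : ((k : ↥Z) : G) = 1 := by
      rw [← pow_one ((k : ↥Z) : G), ← h3]
      exact pow_gcd_eq_one.2 ⟨hkp, h2⟩
    have h5 : k = 1 := Subtype.ext (Subtype.ext h4)
    rw [h5, orderOf_one] at hk
    exact (Fact.out : p.Prime).ne_one hk.symm
  intro z hz g
  obtain ⟨w, hw⟩ := (Finite.injective_iff_surjective.1 hinj) ⟨z, hz⟩
  have : (N w : G) = z := congrArg Subtype.val hw
  rw [← this]
  exact hfix w g

theorem family_control (hp : p ≠ 2) (H : Type u) [Group H] [Finite H] :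
    FamilyControlsTransferIn p (inducedSet (family.{u} p) H) ⊤ := by
  refine familyTransfer_of_sections (family_func hp) (fun G _ _ _ hC ind indq => ?_) H (isSec_self H)
  by_contra hG
  obtain ⟨S⟩ : Nonempty (Sylow p G) := inferInstance
  have hQne : pCore p G ≠ ⊥ := fun h => by
    rw [h] at hC
    have htop : (⊤ : Subgroup G) ≤ ⊥ := le_trans
      (fun g _ => Subgroup.mem_centralizer_iff.2 fun x hx => by rw [Subgroup.mem_bot.1 hx, one_mul, mul_one]) hC
    refine hG (familyControlsTransfer_of_le S (le_trans inf_le_left ?_))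
    exact (le_top.trans htop).trans bot_le
  haveI := CfsgLib.Core.normal_pCore p G
  have hfail := CfsgLib.Techniques.not_pCore_inf_le (family_func hp) ind (indq _ hQne) hG S
  have hnormal : ∀ W ∈ family.{u} p, ¬ (inducedFunctor (G := G) W (S : Subgroup G)).Normal := by
    intro W hW hn
    refine hfail fun x hx => Subgroup.mem_iSup_of_mem _ (Subgroup.mem_iSup_of_mem ⟨W, hW, rfl⟩
      (Subgroup.mem_inf.mpr ⟨CfsgLib.Core.pCore_le_sylow S (Subgroup.mem_inf.1 hx).1, ?_⟩))
    show x ∈ ⁅(⊤ : Subgroup G) ⊓ Subgroup.normalizer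
      ((inducedFunctor W (S : Subgroup G) : Subgroup G) : Set G), _⁆
    haveI := hn
    rw [Subgroup.normalizer_eq_top, top_inf_eq]
    exact (Subgroup.mem_inf.1 hx).2
  have hne : (family.{u} p).Nonempty := ⟨_, Or.inl rfl⟩
  obtain ⟨M, hM, hMle⟩ : ∃ M : Subgroup G, M ≠ ⊤ ∧ ∀ L : Subgroup G, L ≠ ⊤ → (S : Subgroup G) ≤ L → L ≤ M :=
    ⟨_, CfsgLib.Techniques.normalizer_transferPart_ne_top (family_func hp) ind S hne hfail, fun L hL hSL =>
      CfsgLib.Techniques.le_normalizer_transferPart (family_func hp) ind S hL hSL⟩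
  obtain ⟨Z, hZ⟩ : ∃ Z, Z = (S : Subgroup G) ⊓ centralizer ((S : Subgroup G) : Set G) := ⟨_, rfl⟩
  have hZn : ¬ Z.Normal := by
    rw [hZ, ← cFun_induced]
    exact hnormal _ (Or.inl rfl)
  have hSN : ∀ W ∈ family.{u} p, (S : Subgroup G) ≤ normalizer (inducedFunctor (G := G) W (S : Subgroup G) : Set G) :=
    fun W hW => CfsgLib.Techniques.le_normalizer_functor
      (CfsgLib.Techniques.inducedFunctor_isConjugacyFunctor (family_func hp W hW) G) S.2
  have hNWM : ∀ W ∈ family.{u} p, normalizer (inducedFunctor (G := G) W (S : Subgroup G) : Set G) ≤ M :=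
    fun W hW => hMle _ (fun e => hnormal W hW (normalizer_eq_top_iff.1 e)) (hSN W hW)
  haveI : IsMulCommutative ↥Z := isMulCommutative_iff.2 fun a b => Subtype.ext
    (mem_centralizer_iff.1 (hZ.le b.2).2 a (hZ.le a.2).1)
  have hzS : ∀ z ∈ zOne p (S : Subgroup G), z ∈ Z := fun z hz => hZ ▸ CfsgLib.PGroups.omegaOne_le _ hz
  have hSc : (S : Subgroup G) ≤ centralizer (zOne p (S : Subgroup G) : Set G) := fun s hs =>
    mem_centralizer_iff.2 fun z hz => (mem_centralizer_iff.1 (hZ.le (hzS z hz)).2 s hs).symm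
  have hzN : ¬ (zOne p (S : Subgroup G)).Normal := by
    intro hn
    haveI := hn
    by_cases hCt : centralizer (zOne p (S : Subgroup G) : Set G) = ⊤
    · refine hZn (CfsgLib.LocalEven.EPSL.normal_of_central fun z hz g => ?_)
      have := center_central S hC (fun z hz hzp g => ?_) z (hZ ▸ hz) g
      · exact this
      have hzo : z ∈ zOne p (S : Subgroup G) := CfsgLib.PGroups.mem_omegaOne hz hzp
      exact (mem_centralizer_iff.1 (hCt.ge (mem_top g)) z hzo).symm
    obtain ⟨hfr, -⟩ := CfsgLib.LocalEven.EPSL.frattini_inf (S := S) (centralizer (zOne p (S : Subgroup G) : Set G))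
    rw [inf_eq_left.2 hSc] at hfr
    refine hM (top_le_iff.1 (hfr.ge.trans (sup_le ?_ (hMle _ hCt hSc))))
    exact (CfsgLib.Techniques.normalizer_le_normalizer_functor
      (CfsgLib.Techniques.inducedFunctor_isConjugacyFunctor (cFun_isCharPFunctor (p := p)) G) S.2).trans
      (hNWM _ (Or.inl rfl))
  have hJ : ¬ thompsonSubgroupAOf (S : Subgroup G) ≤ pCore p G := by
    intro hle
    have e := CfsgLib.Techniques.thompsonAOf_eq_of_le (CfsgLib.Core.pCore_le_sylow S)
      fun A hA => (CfsgLib.LocalEven.JMeasure.le_thompson hA).trans hle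
    haveI hJn : (thompsonSubgroupAOf (S : Subgroup G)).Normal := by
      rw [← e, ← Subgroup.normalizer_eq_top_iff, eq_top_iff]
      exact (Subgroup.normalizer_eq_top (pCore p G)).ge.trans (CfsgLib.LocalEven.JMeasure.normalizer_le _)
    haveI : (centerThompsonAOf (S : Subgroup G)).Normal := Subgroup.normal_inf_normal _ _
    haveI hCn : (centralizer (centerThompsonAOf (S : Subgroup G) : Set G)).Normal := inferInstance
    obtain ⟨hfr, hSj⟩ := CfsgLib.LocalEven.EPSL.frattini_inf (S := S)
      (centralizer (centerThompsonAOf (S : Subgroup G) : Set G))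
    have hZJ : zOne p (S : Subgroup G) ≤ centerThompsonAOf (S : Subgroup G) := fun z hz => by
      have hzc := (hZ.le (hzS z hz))
      obtain ⟨A, hA⟩ := exists_maxAb (S : Subgroup G)
      exact ⟨le_thompson hA (mem_of_commutes hA hzc.1 fun a ha =>
        mem_centralizer_iff.1 hzc.2 a (hA.1 ha)),
        centralizer_le (SetLike.coe_subset_coe.2 (thompson_le _)) hzc.2⟩
    have hcz : centralizer (centerThompsonAOf (S : Subgroup G) : Set G) ≤ M :=
      (centralizer_le (SetLike.coe_subset_coe.2 hZJ)).trans (hMle _ (fun e' => hzN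
        (CfsgLib.LocalEven.EPSL.normal_of_central fun z hz g =>
          (mem_centralizer_iff.1 (e'.ge (mem_top g)) z hz).symm)) hSc)
    have hWJ : normalizer (jtOf (S : Subgroup G) : Set G) ≤ M := by
      refine le_trans ?_ (hNWM _ (Or.inr rfl))
      rw [jFun_induced (coreK_isCharPFunctor hp) S.2]
      exact CfsgLib.Techniques.normalizer_le_normalizer_functor
        (CfsgLib.Techniques.inducedFunctor_isConjugacyFunctor (coreK_isCharPFunctor hp) G)
        (S.2.to_le (jtOf_le _))
    exact hM (top_le_iff.1 (hfr.ge.trans (sup_le hWJ hcz)))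
  have c : Fail S (family.{u} p) := by
    refine ⟨hp, family_func hp, hne, hC, ind, hfail, hnormal, hzN, hJ, fun W hW T hT hTS => ?_⟩
    rcases hW with rfl | rfl
    · right
      rw [cFun_induced]
      refine ⟨fun t ht => Subgroup.mem_centralizer_iff.2 fun z hz' => ?_, zOne p (S : Subgroup G), ?_, hSc, hzN⟩
      · exact (Subgroup.mem_centralizer_iff.1 hz'.2 t ht).symm
      · intro z hz
        have hzc := hZ.le (hzS z hz)
        refine ⟨hT (Subgroup.mem_sup_right (hC (Subgroup.centralizer_le (CfsgLib.Core.pCore_le_sylow S) hzc.2))), ?_⟩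
        exact Subgroup.centralizer_le hTS hzc.2
    · left
      rw [jFun_induced (coreK_isCharPFunctor hp) (S.2.to_le hTS), jFun_induced (coreK_isCharPFunctor hp) S.2,
        jtOf_of_between hTS (le_sup_left.trans hT)]
  exact not_fail hp c (Or.inr rfl)

end CfsgLib.CommonCore
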