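import Cfsg.Agent.Lib.LocalEven.CommonCore.Inc

/-!
# A common core: a shortest bad walk

`Z_a` is not inside `Q_c` and this happens on no shorter walk. The translates of the first modules of the walk
generate abelian subgroups `Wt j` of `Q_a`; `Dt j` is the centralizer of `Wt j` in `Q_a`.
-/

set_option autoImplicit false
set_option linter.all false

namespace CfsgLib.CommonCore

open Subgroup CfsgLib.PushUp
open CfsgLib.PushFam (Bad Vx)
open scoped commutatorElement

variable {W : Type*} [Group W] [Finite W] {p : ℕ} [Fact p.Prime]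
  {vs : ℕ → Vx W} {fs : ℕ → Subgroup W} {b : ℕ}

/-- A shortest walk along which the first module escapes the last core. -/
structure Crit (p : ℕ) (vs : ℕ → Vx W) (fs : ℕ → Subgroup W) (b : ℕ) : Prop where
  walk : Walk p vs fs b
  pos : 0 < b
  short : ∀ (c : ℕ) (vs' : ℕ → Vx W) (fs' : ℕ → Subgroup W), 0 < c → c < b → Walk p vs' fs' c →
    (vs' 0).Z ≤ (vs' c).Q
  nle : ¬ (vs 0).Z ≤ (vs b).Q

theorem Crit.inc_l (h : Crit p vs fs b) {i : ℕ} (hi : i < b) : Inc p (vs i) (fs i) := (h.walk i hi).1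

theorem Crit.inc_r (h : Crit p vs fs b) {i : ℕ} (hi : i < b) : Inc p (vs (i + 1)) (fs i) := (h.walk i hi).2

theorem Crit.inc_any (h : Crit p vs fs b) {i : ℕ} (hi : i ≤ b) : ∃ P, Inc p (vs i) P := by
  by_cases hib : i < b
  · exact ⟨_, h.inc_l hib⟩
  · obtain rfl : i = b - 1 + 1 := by have := h.pos; omega
    exact ⟨_, h.inc_r (by omega)⟩

theorem Crit.inc_last (h : Crit p vs fs b) : Inc p (vs b) (fs (b - 1)) := by
  have := h.inc_r (i := b - 1) (by have := h.pos; omega)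
  rwa [show b - 1 + 1 = b by have := h.pos; omega] at this

theorem Crit.zq (h : Crit p vs fs b) {c : ℕ} {vs' : ℕ → Vx W} {fs' : ℕ → Subgroup W}
    (hw : Walk p vs' fs' c) (hc : c < b) (h0 : ∃ P, Inc p (vs' 0) P) : (vs' 0).Z ≤ (vs' c).Q := by
  rcases Nat.eq_zero_or_pos c with rfl | hpos
  · obtain ⟨P, hP⟩ := h0
    exact hP.ZQ
  · exact h.short c vs' fs' hpos hc hw

/-- The cores of the walk hold the modules at distance less than `b`. -/
theorem Crit.zq_path (h : Crit p vs fs b) {i j : ℕ} (hi : i ≤ b) (hj : j ≤ b) (hd : i < j + b) (hd' : j < i + b) :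
    (vs i).Z ≤ (vs j).Q := by
  rcases le_total i j with hij | hij
  · have := h.zq (h.walk.shift i (c := j - i) (by omega)) (by omega) (by simpa using h.inc_any hi)
    simpa [show i + (j - i) = j by omega] using this
  · have := h.zq (h.walk.shift j (c := i - j) (by omega)).rev (by omega)
      (by simpa [show j + (i - j) = i by omega] using h.inc_any hi)
    simpa [show j + (i - j) = i by omega] using this

theorem Crit.first_le_edge (h : Crit p vs fs b) {i : ℕ} (hi : i < b) : (vs 0).Z ≤ fs i :=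
  (h.zq_path (Nat.zero_le b) hi.le (by omega) (by omega)).trans (h.inc_l hi).QP

theorem Crit.last_le_edge (h : Crit p vs fs b) {i : ℕ} (hi : i < b) : (vs b).Z ≤ fs i :=
  (h.zq_path le_rfl (j := i + 1) (by omega) (by omega) (by omega)).trans (h.inc_r hi).QP

theorem Crit.last_le_G (h : Crit p vs fs b) : (vs b).Z ≤ (vs 0).G :=
  (h.last_le_edge h.pos).trans (h.inc_l h.pos).PG

theorem Crit.nle' (h : Crit p vs fs b) : ¬ (vs b).Z ≤ (vs 0).Q := fun hle =>
  h.nle fun z hz => h.inc_last.cz (h.first_le_edge (i := b - 1) (by have := h.pos; omega) hz) fun c hc =>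
    ((h.inc_l h.pos).Zc hz (hle hc)).symm

theorem Crit.rev (h : Crit p vs fs b) :
    Crit p (fun i => vs (b - i)) (fun i => fs (b - 1 - i)) b :=
  ⟨h.walk.rev, h.pos, h.short, by simpa using h.nle'⟩

/-- The last module meets the first core in the fixed points. -/
theorem Crit.inf_eq (h : Crit p vs fs b) : (vs b).Z ⊓ (vs 0).Q = om p (fs (b - 1)) := by
  have hb : b - 1 < b := by have := h.pos; omega
  refine le_antisymm ?_ (le_inf h.inc_last.om_le_Z fun z hz => ?_)
  · rintro z ⟨hzc, hzq⟩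
    obtain ⟨x, hx, hxc⟩ := SetLike.not_le_iff_exists.1 h.nle
    exact h.inc_last.fixed (h.first_le_edge hb hx) hxc hzc ((h.inc_l h.pos).Zc hx hzq)
  · exact (h.inc_l h.pos).cz (h.last_le_edge h.pos (h.inc_last.om_le_Z hz)) fun a ha =>
      hz.2.1 a (h.first_le_edge hb ha)

theorem Crit.card_cover (h : Crit p vs fs b) :
    Nat.card ↥((vs b).Z ⊔ (vs 0).Q) * Nat.card ↥(vs b).Q = Nat.card ↥(fs (b - 1)) * Nat.card ↥(vs 0).Q := by
  have h1 := CfsgLib.Core.card_sup_mul_card_inf (vs b).Z (vs 0).Q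
    (h.last_le_G.trans (CfsgLib.PushFam.st_le_normalizer (h.inc_l h.pos).Qn))
  rw [h.inf_eq] at h1
  refine Nat.eq_of_mul_eq_mul_right (Nat.card_pos (α := ↥(om p (fs (b - 1))))) ?_
  calc _ = Nat.card ↥((vs b).Z ⊔ (vs 0).Q) * Nat.card ↥(om p (fs (b - 1))) * Nat.card ↥(vs b).Q := by ring
    _ = Nat.card ↥(vs b).Z * Nat.card ↥(vs b).Q * Nat.card ↥(vs 0).Q := by rw [h1]; ring
    _ = _ := by rw [h.inc_last.card]; ring

/-- The first edge is the last module times the first core. -/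
theorem Crit.cover (h : Crit p vs fs b) : fs 0 = (vs b).Z ⊔ (vs 0).Q := by
  have h1 := h.card_cover
  have h2 := h.rev.card_cover
  simp only [Nat.sub_zero, Nat.sub_self] at h2
  have hle : (vs b).Z ⊔ (vs 0).Q ≤ fs 0 := sup_le (h.last_le_edge h.pos) (h.inc_l h.pos).QP
  have hle' : (vs 0).Z ⊔ (vs b).Q ≤ fs (b - 1) :=
    sup_le (h.first_le_edge (by have := h.pos; omega)) h.inc_last.QP
  have c1 := card_le_of_le hle
  have c2 := card_le_of_le hle'
  refine (Subgroup.eq_of_le_of_card_ge hle ?_).symm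
  by_contra hlt
  have h3 := Nat.mul_lt_mul_of_lt_of_le (not_le.1 hlt) c2 Nat.card_pos
  have h4 : Nat.card ↥((vs b).Z ⊔ (vs 0).Q) * Nat.card ↥((vs 0).Z ⊔ (vs b).Q) *
      (Nat.card ↥(vs b).Q * Nat.card ↥(vs 0).Q) =
      Nat.card ↥(fs 0) * Nat.card ↥(fs (b - 1)) * (Nat.card ↥(vs b).Q * Nat.card ↥(vs 0).Q) := by
    calc _ = (Nat.card ↥((vs b).Z ⊔ (vs 0).Q) * Nat.card ↥(vs b).Q) *
          (Nat.card ↥((vs 0).Z ⊔ (vs b).Q) * Nat.card ↥(vs 0).Q) := by ring
      _ = _ := by rw [h1, h2]; ring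
  exact h3.ne (Nat.eq_of_mul_eq_mul_right (Nat.mul_pos Nat.card_pos Nat.card_pos) h4)

/-- The commutators of the last module with the last edge lie in the first module. -/
theorem Crit.comm_last (h : Crit p vs fs b) {x t : W} (hx : x ∈ (vs b).Z) (ht : t ∈ fs (b - 1)) :
    ⁅x, t⁆ ∈ (vs 0).Z := by
  have e : fs (b - 1) = (vs 0).Z ⊔ (vs b).Q := by simpa using h.rev.cover
  have hn : (vs 0).Z ≤ normalizer ((vs b).Q : Set W) :=
    ((h.first_le_edge (by have := h.pos; omega)).trans h.inc_last.PG).trans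
      (CfsgLib.PushFam.st_le_normalizer h.inc_last.Qn)
  rw [e, ← SetLike.mem_coe, Subgroup.coe_mul_of_left_le_normalizer_right _ _ hn] at ht
  obtain ⟨z, hz, q, hq, rfl⟩ := ht
  rw [comm_mul, comm_one_iff.2 (h.inc_last.Zc hx hq), mul_one, mul_inv_cancel, mul_one]
  exact (h.inc_l h.pos).Zn.comm_right (h.last_le_G hx) hz

/-- Elements of a vertex group of the walk and the last module. -/
theorem Crit.ball (h : Crit p vs fs b) {m : ℕ} (hm : m ≤ b) (h2 : 2 * (b - m) ≤ b) {w x x' : W}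
    (hw : w ∈ (vs m).G) (hx : x ∈ (vs b).Z) (hx' : x' ∈ (vs b).Z) :
    ⁅⁅w, x⁆, x'⁆ ∈ (vs 0).Z ∧ (2 * (b - m) < b → ⁅⁅w, x⁆, x'⁆ = 1) := by
  obtain ⟨k, hk⟩ : ∃ k, k = b - m := ⟨_, rfl⟩
  rw [← hk] at h2 ⊢
  obtain ⟨y, hy⟩ : ∃ y, y = w * x * w⁻¹ := ⟨_, rfl⟩
  have hyZ : y ∈ ((vs b).tr w).Z := hy ▸ conj_mem_cj hx
  have hxx : Commute x x' := h.inc_last.Zc hx (h.inc_last.ZQ hx')
  have e : ⁅⁅w, x⁆, x'⁆ = ⁅y, x'⁆ := by
    rw [show ⁅w, x⁆ = y * x⁻¹ by rw [hy, commutatorElement_def], mul_comm',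
      comm_one_iff.2 hxx.inv_left.eq, mul_one, mul_inv_cancel, one_mul]
  have hmk : b - k = m := by omega
  obtain ⟨P, hP⟩ := h.inc_any hm
  have hwalk := (h.walk.shift m (c := k) (by omega)).rev.append
    ((h.walk.shift m (c := k) (by omega)).tr w)
    (show vs (m + (k - k)) = (vs (m + 0)).tr w by rw [Nat.sub_self, Nat.add_zero, hP.tr_self hw])
  have hend : ∃ P, Inc p ((vs b).tr w) P := ⟨_, h.inc_last.tr w⟩
  have h0 : (if k + k ≤ k then vs (m + (k - (k + k))) else (vs (m + (k + k - k))).tr w) = (vs b).tr w := by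
    rcases Nat.eq_zero_or_pos k with rfl | hk0
    · obtain rfl : m = b := by omega
      simp [hP.tr_self hw]
    · simp [show ¬ k + k ≤ k by omega, show m + k = b by omega]
  rw [e]
  have hlt : 2 * k < b → ⁅y, x'⁆ = 1 := by
    intro hlt
    have h1 := h.zq hwalk.rev (by omega) (by simp only [Nat.sub_zero]; rw [h0]; exact hend)
    simp only [Nat.sub_zero, Nat.sub_self, Nat.zero_le, if_true] at h1
    rw [h0, show m + k = b by omega] at h1
    exact comm_one_iff.2 (h.inc_last.Zc hx' (h1 hyZ)).symm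
  refine ⟨?_, hlt⟩
  rcases h2.lt_or_eq with hb | hb
  · rw [hlt hb]; exact one_mem _
  have hk0 : 0 < k := by have := h.pos; omega
  have h1 := h.zq (hwalk.rev.mono (c := k + k - 1) (by omega)) (by omega)
    (by simp only [Nat.sub_zero]; rw [h0]; exact hend)
  simp only [Nat.sub_zero] at h1
  rw [h0, show k + k - (k + k - 1) = 1 by omega, if_pos (show 1 ≤ k by omega),
    show m + (k - 1) = b - 1 by omega] at h1
  rw [← commutatorElement_inv]
  exact inv_mem (h.comm_last hx' ((h.inc_l (i := b - 1) (by omega)).QP (h1 hyZ)))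

/-- The translates of the first modules of the walk. -/
def Wt (vs : ℕ → Vx W) (j : ℕ) : Subgroup W :=
  closure {w | ∃ g ∈ (vs 0).G, ∃ i ≤ j, g⁻¹ * w * g ∈ (vs i).Z}

theorem mem_Wt {g z : W} {i j : ℕ} (hg : g ∈ (vs 0).G) (hi : i ≤ j) (hz : z ∈ (vs i).Z) :
    g * z * g⁻¹ ∈ Wt vs j := subset_closure ⟨g, hg, i, hi, by simpa [mul_assoc] using hz⟩

theorem Wt_mono {i j : ℕ} (hij : i ≤ j) : Wt vs i ≤ Wt vs j :=
  closure_mono fun w ⟨g, hg, l, hl, hw⟩ => ⟨g, hg, l, hl.trans hij, hw⟩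

theorem Wt_stable (j : ℕ) : Stable (vs 0).G (Wt vs j) := by
  intro g hg x hx
  induction hx using closure_induction with
  | mem y hy =>
    obtain ⟨k, hk, i, hi, hy⟩ := hy
    exact subset_closure ⟨g * k, mul_mem hg hk, i, hi, by simpa [mul_assoc] using hy⟩
  | one => simp
  | mul a b _ _ ha hb => simpa [mul_assoc] using mul_mem ha hb
  | inv a _ ha => simpa [mul_assoc] using inv_mem ha

theorem Crit.Wt_le (h : Crit p vs fs b) {j : ℕ} (hj : j < b) : Wt vs j ≤ (vs 0).Q := by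
  refine (closure_le _).2 ?_
  rintro w ⟨g, hg, i, hi, hw⟩
  have := (h.inc_l h.pos).Qn g hg _ (h.zq_path (i := i) (j := 0) (by omega) (Nat.zero_le b) (by omega) (by omega) hw)
  simpa [mul_assoc] using this

theorem Crit.Wt_comm (h : Crit p vs fs b) {j : ℕ} (hj : 2 * j < b) {u w : W} (hu : u ∈ Wt vs j)
    (hw : w ∈ Wt vs j) : u * w = w * u := by
  have key : Wt vs j ≤ centralizer (Wt vs j : Set W) := by
    rw [Wt, Subgroup.centralizer_closure, closure_le]
    rintro u ⟨g, hg, i, hi, hu⟩ w ⟨g', hg', i', hi', hw⟩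
    have hwalk := ((h.walk.mono (c := i) (by omega)).rev.tr g).append ((h.walk.mono (c := i') (by omega)).tr g')
      (show (vs (i - i)).tr g = (vs 0).tr g' by
        rw [Nat.sub_self, (h.inc_l h.pos).tr_self hg, (h.inc_l h.pos).tr_self hg'])
    obtain ⟨Pi, hPi⟩ := h.inc_any (i := i) (by omega)
    obtain ⟨Pi', hPi'⟩ := h.inc_any (i := i') (by omega)
    have h1 := h.zq hwalk (by omega) (by simpa using ⟨_, hPi.tr g⟩)
    simp only [Nat.zero_le, if_true, Nat.sub_zero] at h1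
    have h2 : (if i + i' ≤ i then (vs (i - (i + i'))).tr g else (vs (i + i' - i)).tr g') = (vs i').tr g' := by
      rcases Nat.eq_zero_or_pos i' with rfl | hp
      · rw [if_pos (by omega), Nat.add_zero, Nat.sub_self, (h.inc_l h.pos).tr_self hg,
          (h.inc_l h.pos).tr_self hg']
      · rw [if_neg (by omega), Nat.add_sub_cancel_left]
    rw [h2] at h1
    have huZ : u ∈ ((vs i).tr g).Z := mem_cj.2 hu
    exact (hPi'.tr g').Zc (mem_cj.2 hw) (h1 huZ)
  exact (mem_centralizer_iff.1 (key hu) w hw).symm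

theorem Crit.Wt_pow (h : Crit p vs fs b) {j : ℕ} (hj : 2 * j < b) {w : W} (hw : w ∈ Wt vs j) : w ^ p = 1 := by
  induction hw using closure_induction with
  | mem y hy =>
    obtain ⟨g, hg, i, hi, hy⟩ := hy
    obtain ⟨P, hP⟩ := h.inc_any (i := i) (by omega)
    calc y ^ p = g * (g⁻¹ * y * g) ^ p * g⁻¹ := by rw [← conj_pow]; group
      _ = 1 := by rw [hP.Zp hy]; group
  | one => exact one_pow _
  | mul a c ha hc ha' hc' => rw [(show Commute a c from h.Wt_comm hj ha hc).mul_pow, ha', hc', one_mul]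
  | inv a _ ha => rw [inv_pow, ha, inv_one]

theorem Crit.Wt_comm_mul (h : Crit p vs fs b) {j : ℕ} (hj : 2 * j < b) {x u w : W} (hx : x ∈ (vs 0).G)
    (hu : u ∈ Wt vs j) (hw : w ∈ Wt vs j) : ⁅x, u * w⁆ = ⁅x, u⁆ * ⁅x, w⁆ := by
  rw [comm_mul, h.Wt_comm hj hu ((Wt_stable j).comm_right hx hw), mul_inv_cancel_right]

theorem Crit.Wt_comm_inv (h : Crit p vs fs b) {j : ℕ} (hj : 2 * j < b) {x u : W} (hx : x ∈ (vs 0).G)
    (hu : u ∈ Wt vs j) : ⁅x, u⁻¹⁆ = ⁅x, u⁆⁻¹ := by
  refine eq_inv_of_mul_eq_one_right ?_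
  rw [← h.Wt_comm_mul hj hx hu (inv_mem hu), mul_inv_cancel, commutatorElement_one_right]

/-- The last module acts quadratically on `Wt j`. -/
theorem Crit.Wt_quad (h : Crit p vs fs b) {j : ℕ} (hj : 2 * j < b) {x x' w : W} (hx : x ∈ (vs b).Z)
    (hx' : x' ∈ (vs b).Z) (hw : w ∈ Wt vs j) : ⁅x', ⁅x, w⁆⁆ = 1 := by
  have hxG := h.last_le_G hx
  have hxG' := h.last_le_G hx'
  induction hw using closure_induction with
  | mem y hy =>
    obtain ⟨g, hg, i, hi, hy⟩ := hy
    have hwalk := ((h.walk.mono (c := i) (by omega)).rev.tr g).append (h.walk.mono (c := b - i - 1) (by omega))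
      (show (vs (i - i)).tr g = vs 0 by rw [Nat.sub_self, (h.inc_l h.pos).tr_self hg])
    obtain ⟨Pi, hPi⟩ := h.inc_any (i := i) (by omega)
    have h1 := h.zq hwalk (by omega) (by simpa using ⟨_, hPi.tr g⟩)
    simp only [Nat.zero_le, if_true, Nat.sub_zero] at h1
    have h0 : (if i + (b - i - 1) ≤ i then (vs (i - (i + (b - i - 1)))).tr g else vs (i + (b - i - 1) - i)) =
        vs (b - i - 1) := by
      by_cases hz : b - i - 1 = 0
      · rw [hz, if_pos (by omega), Nat.add_zero, Nat.sub_self, (h.inc_l h.pos).tr_self hg]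
      · rw [if_neg (by omega), Nat.add_sub_cancel_left]
    rw [h0] at h1
    have hyG : y ∈ (vs (b - i)).G := by
      have := h.inc_r (i := b - i - 1) (by omega)
      rw [show b - i - 1 + 1 = b - i by omega] at this
      exact this.PG ((h.inc_l (by omega)).QP (h1 (mem_cj.2 hy)))
    have h2 := (h.ball (m := b - i) (by omega) (by omega) hyG hx hx').2 (by omega)
    have h3 : Commute ⁅y, x⁆ x' := comm_one_iff.1 h2
    rw [← commutatorElement_inv y x, comm_one_iff]
    exact (h3.inv_left).eq.symm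
  | one => simp
  | mul a c ha hc ha' hc' =>
    rw [h.Wt_comm_mul hj hxG ha hc, h.Wt_comm_mul hj hxG' ((Wt_stable j).comm_right hxG ha)
      ((Wt_stable j).comm_right hxG hc), ha', hc', one_mul]
  | inv a ha ha' =>
    rw [h.Wt_comm_inv hj hxG ha, h.Wt_comm_inv hj hxG' ((Wt_stable j).comm_right hxG ha), ha', inv_one]

/-- The centralizer of `Wt j` in the first core. -/
def Dt (vs : ℕ → Vx W) (j : ℕ) : Subgroup W := (vs 0).Q ⊓ centralizer (Wt vs j : Set W)

theorem Crit.Dt_stable (h : Crit p vs fs b) (j : ℕ) : Stable (vs 0).G (Dt vs j) := by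
  intro g hg d hd
  refine ⟨(h.inc_l h.pos).Qn g hg d hd.1, mem_centralizer_iff.2 fun w hw => ?_⟩
  have h1 := mem_centralizer_iff.1 hd.2 _ ((Wt_stable j).inv hg hw)
  calc w * (g * d * g⁻¹) = g * ((g⁻¹ * w * g) * d) * g⁻¹ := by group
    _ = g * (d * (g⁻¹ * w * g)) * g⁻¹ := by rw [h1]
    _ = _ := by group

/-- An element centralizing `Wt j` fixes the walk. -/
theorem Crit.Dt_path (h : Crit p vs fs b) {j i : ℕ} (hi : i ≤ j) (hib : i < b) {d : W} (hd : d ∈ Dt vs j) :
    d ∈ (vs i).Q ∧ d ∈ fs i := by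
  induction i with
  | zero => exact ⟨hd.1, (h.inc_l h.pos).QP hd.1⟩
  | succ i ih =>
    have h1 := (ih (by omega) (by omega)).2
    have h2 : d ∈ (vs (i + 1)).Q := (h.inc_r (by omega)).cz h1 fun z hz => by
      have := mem_centralizer_iff.1 hd.2 _ (mem_Wt (g := 1) (one_mem _) hi hz)
      simpa using this
    exact ⟨h2, (h.inc_l hib).QP h2⟩

/-- Commutators with translates of the next module. -/
theorem Crit.Dt_comm (h : Crit p vs fs b) {j : ℕ} (hj : j < b) {d g z : W} (hd : d ∈ Dt vs j)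
    (hg : g ∈ (vs 0).G) (hz : z ∈ (vs (j + 1)).Z) : ⁅d, g * z * g⁻¹⁆ ∈ cj g (om p (fs j)) := by
  rw [mem_cj, show g⁻¹ * ⁅d, g * z * g⁻¹⁆ * g = ⁅g⁻¹ * d * g, z⁆ by simp only [commutatorElement_def]; group]
  exact (h.inc_r hj).quad (h.Dt_path le_rfl hj ((h.Dt_stable j).inv hg hd)).2 hz

theorem Crit.Dt_comm_Wt (h : Crit p vs fs b) {j : ℕ} (hj : 2 * (j + 1) < b) {d w : W} (hd : d ∈ Dt vs j)
    (hw : w ∈ Wt vs (j + 1)) : ⁅d, w⁆ ∈ Wt vs j := by
  induction hw using closure_induction with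
  | mem y hy =>
    obtain ⟨g, hg, i, hi, hy⟩ := hy
    rcases hi.lt_or_eq with hlt | rfl
    · have : y ∈ Wt vs j := subset_closure ⟨g, hg, i, by omega, hy⟩
      rw [comm_one_iff.2 (mem_centralizer_iff.1 hd.2 y this).symm]
      exact one_mem _
    · have h1 := h.Dt_comm (j := j) (by omega) hd hg hy
      rw [show g * (g⁻¹ * y * g) * g⁻¹ = y by group] at h1
      obtain ⟨c, hc, e⟩ := h1
      rw [← e]
      exact mem_Wt hg le_rfl ((h.inc_l (i := j) (by omega)).om_le_Z hc)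
  | one => simp
  | mul a c ha hc ha' hc' =>
    rw [comm_mul, h.Wt_comm hj ha (Wt_mono (Nat.le_succ j) hc'), mul_inv_cancel_right]
    exact mul_mem ha' hc'
  | inv a ha ha' =>
    have e : ⁅d, a⁻¹⁆ = a⁻¹ * ⁅d, a⁆⁻¹ * a := by simp only [commutatorElement_def]; group
    rw [e, mul_assoc, h.Wt_comm hj (inv_mem (Wt_mono (Nat.le_succ j) ha')) ha, ← mul_assoc, inv_mul_cancel, one_mul]
    exact inv_mem ha'

end CfsgLib.CommonCore
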