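import Cfsg.Agent.Lib.LocalEven.CommonCore.Functor
import Cfsg.Agent.Lib.LocalEven.Transfer3.Family
import Cfsg.Agent.Lib.LocalEven.Transfer3.Finish

/-!
# A common core: no minimal failure
-/

set_option autoImplicit false
set_option linter.all false

namespace CfsgLib.CommonCore

open Subgroup Cfsg CfsgLib.PushUp CfsgLib.Transfer3 CfsgLib.LocalEven CfsgLib.LocalEven.JMeasure
open CfsgLib.PushFam (Vx Bad Situ)
open CfsgLib.Techniques (inducedSet transferPart)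
open scoped commutatorElement

universe u

/-- An abelian subgroup of largest order outside the core gives an offender. -/
theorem off_of_max {W : Type*} [Group W] [Finite W] {p : ℕ} [Fact p.Prime] {G S Q M : Subgroup W}
    (h : Bad p G S Q M) {A : Subgroup W} (hA : A ≤ S) (hAab : A ≤ centralizer (A : Set W)) (hAQ : ¬ A ≤ Q)
    (hmax : ∀ B : Subgroup W, B ≤ S → B ≤ centralizer (B : Set W) → Nat.card ↥B ≤ Nat.card ↥A) :
    Off p G S Q := by
  obtain ⟨Z, hZ⟩ : ∃ Z, Z = zc p G S := ⟨_, rfl⟩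
  have hAn : A ≤ normalizer (Q : Set W) := (hA.trans h.SG).trans (CfsgLib.PushFam.st_le_normalizer h.Qn)
  have hZQc : ∀ {H : Subgroup W}, H ≤ Q → Z ≤ centralizer (H : Set W) := fun hH =>
    hZ ▸ (h.zc_le.trans inf_le_right).trans (CfsgLib.PushFam.centralizer_anti hH)
  refine ⟨A ⊔ Q, le_sup_right, sup_le hA h.QS, fun e => hAQ (le_sup_left.trans e.le), ?_⟩
  rw [← hZ]
  have hRab : Z ⊔ (A ⊓ Q) ≤ centralizer ((Z ⊔ (A ⊓ Q) : Subgroup W) : Set W) :=
    CfsgLib.PushFam.abelian_sup (hZQc (hZ ▸ h.zc_le_Q))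
      ((inf_le_left.trans hAab).trans (CfsgLib.PushFam.centralizer_anti inf_le_left)) (hZQc inf_le_right)
  have e1 : Nat.card ↥(Z ⊔ (A ⊓ Q)) ≤ Nat.card ↥A :=
    hmax _ (sup_le (hZ ▸ h.zc_le_S) (inf_le_left.trans hA)) hRab
  have e2 := CfsgLib.Core.card_sup_mul_card_inf Z (A ⊓ Q)
    ((hZQc inf_le_right).trans (Subgroup.centralizer_le_normalizer _))
  have e3 := CfsgLib.Core.card_sup_mul_card_inf A Q hAn
  have e4 : Nat.card ↥(Z ⊓ (A ⊓ Q)) ≤ Nat.card ↥(Z ⊓ centralizer ((A ⊔ Q : Subgroup W) : Set W)) :=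
    card_le_of_le (le_inf inf_le_left (CfsgLib.PushFam.sup_comm_le
      (CfsgLib.PushFam.comm_symm (inf_le_right.trans (inf_le_left.trans hAab)))
      (CfsgLib.PushFam.comm_symm (inf_le_left.trans (hZQc le_rfl)))))
  refine Nat.le_of_mul_le_mul_right ?_ (Nat.card_pos (α := ↥(A ⊓ Q)))
  calc Nat.card ↥Z * Nat.card ↥Q * Nat.card ↥(A ⊓ Q)
      = (Nat.card ↥Z * Nat.card ↥(A ⊓ Q)) * Nat.card ↥Q := by ring
    _ = Nat.card ↥(Z ⊔ (A ⊓ Q)) * Nat.card ↥(Z ⊓ (A ⊓ Q)) * Nat.card ↥Q := by rw [e2]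
    _ ≤ Nat.card ↥A * Nat.card ↥(Z ⊓ centralizer ((A ⊔ Q : Subgroup W) : Set W)) * Nat.card ↥Q :=
        Nat.mul_le_mul_right _ (Nat.mul_le_mul e1 e4)
    _ = (Nat.card ↥A * Nat.card ↥Q) * Nat.card ↥(Z ⊓ centralizer ((A ⊔ Q : Subgroup W) : Set W)) := by ring
    _ = (Nat.card ↥(A ⊔ Q) * Nat.card ↥(A ⊓ Q)) * _ := by rw [e3]
    _ = _ := by ring

variable {G : Type u} [Group G] [Finite G] {p : ℕ} [Fact p.Prime]
variable {S : Sylow p G} {𝓦 : Set (∀ (Q : Type u) [Group Q], Subgroup Q)}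

/-- An element quadratic on all chief factors of the closure contradicts failure. -/
theorem false_of_quad (c : Fail S 𝓦) (u : G) (hu : u ∈ jtOf (S : Subgroup G)) (huQ : u ∉ pCore p G)
    (hquad : ∀ U V : Subgroup ↥c.clo, Cfsg.IsChiefFactor U V → U ≤ pCore p ↥c.clo → ∀ y ∈ U, ∀ i j : ℕ,
      ⁅⁅y, (⟨u, c.jt_le_clo hu⟩ : ↥c.clo) ^ i⁆, (⟨u, c.jt_le_clo hu⟩ : ↥c.clo) ^ j⁆ ∈ V) : False := by
  haveI hQn := CfsgLib.Core.normal_pCore p G
  obtain ⟨U, V, hch, hUQ, hbad⟩ :=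
    CfsgLib.Techniques.exists_chiefFactor_not_engel c.func c.ind S c.ne c.fail u (jtOf_le _ hu) huQ
  obtain ⟨hVU, hUn, hVn, hmin⟩ := hch
  haveI := hUn
  haveI := hVn
  refine hbad ?_
  suffices key : ⁅⁅U, zpowers u⁆, zpowers u⁆ ≤ V by
    have h2 : 2 ≤ p - 1 := by have := (Fact.out : p.Prime).two_le; have := c.odd; omega
    obtain ⟨m, hm⟩ := Nat.exists_eq_add_of_le h2
    rw [hm]
    clear hm
    induction m with
    | zero => exact key
    | succ m ih =>
      show ⁅Cfsg.iterCommutator U (zpowers u) (2 + m), zpowers u⁆ ≤ V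
      exact (Subgroup.commutator_mono ih le_rfl).trans (Subgroup.commutator_le_left _ _)
  obtain ⟨π, hπ⟩ : ∃ π, π = QuotientGroup.mk' V := ⟨_, rfl⟩
  have hπ1 : ∀ x, π x = 1 ↔ x ∈ V := fun x => hπ ▸ QuotientGroup.eq_one_iff x
  have hUQ' : ⁅U, pCore p G⁆ ≤ V := by
    rcases hmin (⁅U, pCore p G⁆ ⊔ V) inferInstance le_sup_right
      (sup_le (Subgroup.commutator_le_left _ _) hVU.le) with e | e
    · exact le_sup_left.trans e.le
    exfalso
    have h1 : U.map π = ⁅U.map π, (pCore p G).map π⁆ := by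
      conv_lhs => rw [← e, Subgroup.map_sup, Subgroup.map_commutator,
        show V.map π = ⊥ from (Subgroup.map_eq_bot_iff _).2 fun x hx => MonoidHom.mem_ker.2 ((hπ1 x).2 hx), sup_bot_eq]
    have hne : U.map π ≠ ⊥ := fun e' => hVU.not_ge fun x hx =>
      (hπ1 x).1 (mem_bot.1 (e' ▸ mem_map_of_mem π hx))
    haveI : (U.map π).Normal := ‹U.Normal›.map π (hπ ▸ QuotientGroup.mk'_surjective V)
    exact (CfsgLib.Techniques.commutator_lt_of_isPGroup ((CfsgLib.Core.isPGroup_pCore p G).map π)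
      (map_mono hUQ) hne inferInstance).ne h1.symm
  have huc : u ∈ c.clo := c.jt_le_clo hu
  have hnatural : ∀ (i j : ℕ), ∀ x ∈ U, π ⁅⁅x, u ^ i⁆, u ^ j⁆ = 1 := by
    intro i j x hx
    rw [hπ1]
    rcases hmin (U ⊓ c.clo ⊔ V) inferInstance le_sup_right (sup_le inf_le_left hVU.le) with e | e
    · have h1 : ⁅x, u ^ i⁆ ∈ V := (sup_eq_right.1 e) (Subgroup.mem_inf.2
        ⟨(Subgroup.commutator_le_left U ⊤) (Subgroup.commutator_mem_commutator hx (mem_top _)),
          (Subgroup.commutator_le_right ⊤ c.clo) (Subgroup.commutator_mem_commutator (mem_top _) (pow_mem huc i))⟩)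
      exact (Subgroup.commutator_le_left V ⊤) (Subgroup.commutator_mem_commutator h1 (mem_top _))
    obtain ⟨y, hy, v, hv, hyv⟩ := mem_sup_of_normal_right.1 (e.ge hx)
    suffices hyy : ⁅⁅y, u ^ i⁆, u ^ j⁆ ∈ V by
      rw [← hπ1] at hyy ⊢
      have hxy : π x = π y := by rw [← hyv, map_mul, (hπ1 v).2 hv, mul_one]
      simp only [map_commutatorElement, hxy] at hyy ⊢
      exact hyy
    obtain ⟨U1, hU1⟩ : ∃ U1, U1 = (U ⊓ c.clo).subgroupOf c.clo := ⟨_, rfl⟩
    obtain ⟨V1, hV1⟩ : ∃ V1, V1 = (V ⊓ c.clo).subgroupOf c.clo := ⟨_, rfl⟩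
    haveI hU1n : U1.Normal := hU1 ▸ inferInstance
    haveI hV1n : V1.Normal := hV1 ▸ inferInstance
    have hU1p : U1 ≤ pCore p ↥c.clo := c.pCore_clo ▸ hU1 ▸ fun z hz => hUQ hz.1
    have hlt : V1 < U1 := lt_of_le_of_ne (hV1 ▸ hU1 ▸ fun z hz => ⟨hVU.le hz.1, hz.2⟩) fun e1 => by
      refine hVU.not_ge (e.ge.trans (sup_le (fun z hz => ?_) le_rfl))
      have hz1 : (⟨z, hz.2⟩ : ↥c.clo) ∈ V1 := e1 ▸ hU1 ▸ hz
      exact (hV1 ▸ hz1 : (⟨z, hz.2⟩ : ↥c.clo) ∈ (V ⊓ c.clo).subgroupOf c.clo).1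
    have hchief : Cfsg.IsChiefFactor U1 V1 := by
      refine ⟨hlt, hU1n, hV1n, fun X hX h1 h2 => ?_⟩
      haveI := hX
      obtain ⟨Y, hY⟩ : ∃ Y, Y = X.map c.clo.subtype := ⟨_, rfl⟩
      have hYU : Y ≤ U ⊓ c.clo := by
        rw [hY]
        rintro _ ⟨z, hz, rfl⟩
        exact hU1.le (h2 hz)
      have hVY : V ⊓ c.clo ≤ Y := fun z hz => hY ▸ ⟨⟨z, hz.2⟩, h1 (hV1 ▸ hz), rfl⟩
      have hYn : Y.Normal := by
        refine normalizer_eq_top_iff.1 (top_le_iff.1 (c.clo_sup.ge.trans (sup_le ?_ ?_)))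
        · refine le_normalizer_iff.2 fun l hl z hz => ?_
          obtain ⟨z', hz', rfl⟩ := hY.le hz
          exact hY ▸ ⟨⟨l, hl⟩ * z' * ⟨l, hl⟩⁻¹, hX.conj_mem z' hz' _, by simp⟩
        · refine le_normalizer_iff.2 fun r hr z hz => ?_
          obtain ⟨hzU, hzN⟩ := Subgroup.mem_inf.1 (hYU hz)
          have hd : r * z * r⁻¹ * z⁻¹ ∈ V ⊓ c.clo := Subgroup.mem_inf.2 ⟨by
            have h3 := hUQ' (Subgroup.commutator_mem_commutator (inv_mem hzU) hr)
            have h4 := hVn.conj_mem _ h3 z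
            simpa [commutatorElement_def, mul_assoc] using h4,
            mul_mem (c.clo_normal.conj_mem z hzN r) (inv_mem hzN)⟩
          have := mul_mem (hVY hd) hz
          rwa [inv_mul_cancel_right] at this
      haveI := hYn
      rcases hmin (Y ⊔ V) inferInstance le_sup_right (sup_le (hYU.trans inf_le_left) hVU.le) with e1 | e1
      · left
        refine le_antisymm (fun z hz => ?_) h1
        have hzY : (z : G) ∈ Y := hY ▸ mem_map_of_mem _ hz
        exact hV1 ▸ ⟨(sup_eq_right.1 e1) hzY, z.2⟩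
      · right
        refine le_antisymm h2 fun z hz => ?_
        have hzU : (z : G) ∈ U := ((hU1 ▸ hz : z ∈ (U ⊓ c.clo).subgroupOf c.clo)).1
        obtain ⟨y', hy', v', hv', e2⟩ := mem_sup_of_normal_right.1 (e1.ge hzU)
        have hvN : v' ∈ c.clo := by
          have : v' = y'⁻¹ * (z : G) := by rw [← e2]; simp
          rw [this]; exact mul_mem (inv_mem (hYU hy').2) z.2
        obtain ⟨z', hz', e3⟩ := (hY ▸ mul_mem hy' (hVY ⟨hv', hvN⟩) : y' * v' ∈ X.map c.clo.subtype)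
        have : z' = z := Subtype.ext (e3.trans e2)
        exact this ▸ hz'
    have := hquad U1 V1 hchief hU1p ⟨y, hy.2⟩ (hU1 ▸ hy) i j
    have h' := (hV1 ▸ this : ⁅⁅(⟨y, hy.2⟩ : ↥c.clo), (⟨u, huc⟩ : ↥c.clo) ^ i⁆, (⟨u, huc⟩ : ↥c.clo) ^ j⁆ ∈
      (V ⊓ c.clo).subgroupOf c.clo).1
    simpa [commutatorElement_def] using h'
  refine Subgroup.commutator_le.2 fun d hd z hz => ?_
  obtain ⟨j, rfl⟩ : ∃ j : ℕ, u ^ j = z := mem_powers_iff_mem_zpowers.2 hz
  have hD : ⁅U, zpowers u⁆ ≤ U ⊓ (centralizer {π (u ^ j)}).comap π := by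
    refine Subgroup.commutator_le.2 fun x hx z' hz' => ?_
    obtain ⟨i, rfl⟩ : ∃ i : ℕ, u ^ i = z' := mem_powers_iff_mem_zpowers.2 hz'
    refine Subgroup.mem_inf.2 ⟨(Subgroup.commutator_le_left U ⊤) (Subgroup.commutator_mem_commutator hx (mem_top _)),
      mem_comap.2 (mem_centralizer_singleton_iff.2 ?_)⟩
    have h2 := hnatural i j x hx
    rw [map_commutatorElement, commutatorElement_eq_one_iff_mul_comm] at h2
    exact h2
  refine (hπ1 _).1 ?_
  rw [map_commutatorElement, commutatorElement_eq_one_iff_mul_comm]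
  exact mem_centralizer_singleton_iff.1 (hD hd).2

/-- A minimal failure for a family containing the common core of `J̃` is impossible. -/
theorem not_fail (hp2 : p ≠ 2) (c : Fail S 𝓦) (hW : jFun (coreK p) ∈ 𝓦) : False := by
  obtain ⟨F, iF, iFt, n, K, hK, P, hn, hF, hinf, hP, hE₁, hE₂, hE₃⟩ := c.closure_data
  haveI := hK
  haveI hQn := CfsgLib.Core.normal_pCore p G
  obtain ⟨τ, hτdef⟩ : ∃ τ, τ = Subgroup.inclusion c.jt_le_clo := ⟨_, rfl⟩
  have hτi : Function.Injective τ := hτdef ▸ Subgroup.inclusion_injective _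
  have hrange : τ.range = (jtOf (S : Subgroup G)).subgroupOf c.clo := hτdef ▸ Subgroup.inclusion_range _
  have hPr : (P : Subgroup ↥c.clo) = τ.range := hP.trans hrange.symm
  have hsitu : Situ p τ := ⟨hτi, ⟨P, hPr⟩, hE₁, hPr ▸ hE₂, K, hK, F, iF, iFt, n, hn, hF, hE₃⟩
  have hzmem : ∀ z ∈ zOne p (S : Subgroup G), z ∈ jtOf (S : Subgroup G) ∧
      (∀ s ∈ (S : Subgroup G), s * z = z * s) ∧ z ^ p = 1 := by
    intro z hz
    haveI : IsMulCommutative ↥((S : Subgroup G) ⊓ centralizer ((S : Subgroup G) : Set G)) :=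
      isMulCommutative_iff.2 fun a b => Subtype.ext (mem_centralizer_iff.1 b.2.2 a a.2.1)
    obtain ⟨⟨hzS, hzC⟩, hzp⟩ := CfsgLib.PGroups.mem_omegaOne_iff_of_comm.1 hz
    refine ⟨⟨hzS, mem_centralizer_iff.2 fun w hw => ?_⟩, mem_centralizer_iff.1 hzC, hzp⟩
    exact mem_centralizer_iff.1 hzC w (thompson_le _ hw.1)
  have hnf : ¬ om p τ.range ≤ centralizer ((⊤ : Subgroup ↥c.clo) : Set ↥c.clo) := by
    intro hle
    refine c.zN ⟨fun z hz g => ?_⟩
    obtain ⟨hzT, hzS, hzp⟩ := hzmem z hz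
    have hzom : (⟨z, c.jt_le_clo hzT⟩ : ↥c.clo) ∈ om p τ.range := by
      refine ⟨hrange ▸ hzT, fun s hs => ?_, Subtype.ext hzp⟩
      exact Subtype.ext (hzS _ (jtOf_le _ (hrange ▸ hs : s ∈ (jtOf (S : Subgroup G)).subgroupOf c.clo)))
    have hC : (⊤ : Subgroup G) ≤ centralizer ({z} : Set G) := by
      rw [← c.clo_sup]
      refine sup_le (fun l hl => mem_centralizer_singleton_iff.2 ?_) fun q hq =>
        mem_centralizer_singleton_iff.2 (hzS q (c.core_le hq))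
      exact congrArg Subtype.val (mem_centralizer_iff.1 (hle hzom) ⟨l, hl⟩ (mem_top _))
    rw [mem_centralizer_singleton_iff.1 (hC (mem_top g)), mul_inv_cancel_right]
    exact hz
  obtain ⟨M, hM⟩ := hsitu.exists_bad hnf
  have hoff : Off p (⊤ : Subgroup ↥c.clo) τ.range (pCore p ↥c.clo) := by
    obtain ⟨A, hA, hAQ⟩ : ∃ A, MaxAb (S : Subgroup G) A ∧ ¬ A ≤ pCore p G := by
      by_contra hc
      push Not at hc
      exact c.hJ (thompson_le_iff.2 hc)
    have hAT : A ≤ jtOf (S : Subgroup G) := (le_thompson hA).trans (thompson_le_jtOf _)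
    have hmap : (A.subgroupOf c.clo).map c.clo.subtype = A := map_subgroupOf_eq_of_le (hAT.trans c.jt_le_clo)
    refine off_of_max hM (A := A.subgroupOf c.clo) (hrange ▸ fun a ha => hAT ha)
      (fun a ha => mem_centralizer_iff.2 fun b hb => Subtype.ext (CfsgLib.PLocal.comm_of_mem hA.2.1 hb ha))
      (fun hle => hAQ fun a ha => ?_) fun B hB hBc => ?_
    · have := hle (show (⟨a, c.jt_le_clo (hAT ha)⟩ : ↥c.clo) ∈ A.subgroupOf c.clo from ha)
      rw [c.pCore_clo] at this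
      exact this
    · rw [← card_map_of_injective c.clo.subtype_injective, ← card_map_of_injective c.clo.subtype_injective (K := A.subgroupOf _), hmap]
      refine hA.2.2 _ ?_ (isMulCommutative_iff.2 fun x y => Subtype.ext ?_)
      · rintro _ ⟨x, hx, rfl⟩
        exact jtOf_le _ (hrange ▸ hB hx : x ∈ (jtOf (S : Subgroup G)).subgroupOf c.clo)
      · obtain ⟨_, x', hx', rfl⟩ := x
        obtain ⟨_, y', hy', rfl⟩ := y
        exact congrArg (fun t : ↥c.clo => (t : G)) (mem_centralizer_iff.1 (hBc hy') x' hx')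
  have hbad : BadFactor (⊤ : Subgroup ↥c.clo) τ.range (pCore p ↥c.clo) := by
    intro u hu huQ
    by_contra hc
    push Not at hc
    have huT : (u : G) ∈ jtOf (S : Subgroup G) := (hrange ▸ hu : u ∈ (jtOf (S : Subgroup G)).subgroupOf c.clo)
    refine false_of_quad c u huT (fun hq => huQ (by rw [c.pCore_clo]; exact hq)) fun U V hch hUQ y hy i j => ?_
    exact hc U V (fun g _ x hx => hch.2.1.conj_mem x hx g) (fun g _ x hx => hch.2.2.1.conj_mem x hx g) hch.1.le hUQ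
      (fun N hN h1 h2 => hch.2.2.2 N ⟨fun x hx g => hN g (mem_top g) x hx⟩ h1 h2) y hy _ ⟨(i : ℤ), by simp⟩ _
      ⟨(j : ℤ), by simp⟩
  have htyp : Typ p τ := ⟨hτi, pCore p ↥c.clo, ⟨M, hM⟩, hoff, rfl, hbad⟩
  haveI hn' := coreK_normal htyp
  refine c.mem_ne _ hW ?_
  rw [jFun_induced (coreK_isCharPFunctor hp2) S.2]
  obtain ⟨X, hX⟩ : ∃ X, X = inducedFunctor (G := G) (coreK p) (jtOf (S : Subgroup G)) := ⟨_, rfl⟩
  have hXeq : X = ((coreK p ↥(jtOf (S : Subgroup G))).map τ).map c.clo.subtype := by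
    rw [hX, Subgroup.map_map]
    show (coreK p ↥(jtOf (S : Subgroup G))).map (jtOf (S : Subgroup G)).subtype = _
    congr 1
    rw [hτdef]; rfl
  rw [← hX, ← Subgroup.normalizer_eq_top_iff, eq_top_iff, ← c.clo_sup]
  refine sup_le ?_ ?_
  · refine le_trans ?_ (hXeq ▸ Subgroup.le_normalizer_map c.clo.subtype)
    rw [Subgroup.normalizer_eq_top, ← MonoidHom.range_eq_map, Subgroup.range_subtype]
  · intro q hq
    rw [hX]
    have hcf := CfsgLib.Techniques.inducedFunctor_isConjugacyFunctor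
      (jFun_isCharPFunctor (coreK_isCharPFunctor.{u} (p := p) hp2)) G
    have := CfsgLib.Techniques.le_normalizer_functor hcf S.2 (CfsgLib.Core.pCore_le_sylow S hq)
    rwa [jFun_induced (coreK_isCharPFunctor hp2) S.2] at this

end CfsgLib.CommonCore
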