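import Cfsg.Agent.Lib.LocalEven.CommonCore.Claim
import Cfsg.Agent.Lib.Techniques.Sections

/-!
# A common core: the functor

`coreK p Q` is the largest subgroup of `Q` that is normal in every group in which `Q` is an edge at the vertex
of the whole group.
-/

set_option autoImplicit false
set_option linter.all false

namespace CfsgLib.CommonCore

open Subgroup CfsgLib.PushUp
open CfsgLib.PushFam (Vx leftHom leftHom_injective exists_split map_zc mem_map_inj)

universe u

/-- `τ` is an edge at the vertex of the whole group. -/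
def Typ (p : ℕ) {Q X : Type u} [Group Q] [Group X] (τ : Q →* X) : Prop :=
  Function.Injective τ ∧ ∃ Qv : Subgroup X,
    Inc p (⟨⊤, Qv, zc p (⊤ : Subgroup X) τ.range⟩ : Vx X) τ.range

/-- The subgroups of `Q` normal in all types. -/
def coreSet (p : ℕ) (Q : Type u) [Group Q] : Set (Subgroup Q) :=
  {K | ∀ (X : Type u) [Group X] [Finite X] (τ : Q →* X), Typ p τ → (K.map τ).Normal}

/-- The largest one. -/
def coreK (p : ℕ) : ∀ (Q : Type u) [Group Q], Subgroup Q := fun Q _ => sSup (coreSet p Q)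

variable {p : ℕ} [Fact p.Prime]

theorem coreK_normal {Q X : Type u} [Group Q] [Group X] [Finite X] {τ : Q →* X} (h : Typ p τ) :
    ((coreK p Q).map τ).Normal := by
  refine ⟨fun x hx g => ?_⟩
  have hle : ((coreK p Q).map τ).map (MulAut.conj g).toMonoidHom ≤ (coreK p Q).map τ := by
    rw [coreK, sSup_eq_iSup, Subgroup.map_iSup, Subgroup.map_iSup]
    simp only [Subgroup.map_iSup]
    refine iSup₂_le fun K hK => le_iSup₂_of_le K hK ?_
    rintro _ ⟨y, hy, rfl⟩
    exact (hK X τ h).conj_mem y hy g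
  exact hle ⟨x, hx, rfl⟩

theorem map_coreK_le {Q R : Type u} [Group Q] [Group R] (φ : Q ≃* R) :
    (coreK p Q).map φ.toMonoidHom ≤ coreK p R := by
  rw [coreK, coreK, sSup_eq_iSup, Subgroup.map_iSup]
  simp only [Subgroup.map_iSup]
  refine iSup₂_le fun K hK => le_sSup ?_
  intro X _ _ τ hτ
  rw [Subgroup.map_map]
  refine hK X _ ⟨hτ.1.comp φ.injective, ?_⟩
  rw [MonoidHom.range_comp, MonoidHom.range_eq_top.2 φ.surjective, ← MonoidHom.range_eq_map]
  exact hτ.2

theorem map_coreK {Q R : Type u} [Group Q] [Group R] (φ : Q ≃* R) :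
    (coreK p Q).map φ.toMonoidHom = coreK p R := by
  refine le_antisymm (map_coreK_le φ) fun r hr => ⟨φ.symm r, map_coreK_le φ.symm ⟨r, hr, rfl⟩, ?_⟩
  exact φ.apply_symm_apply r

variable (hp2 : p ≠ 2)
include hp2

/-- There is a nontrivial subgroup normal in all types. -/
theorem coreK_ne_bot (Q : Type u) [Group Q] [Finite Q] [Nontrivial Q] : coreK p Q ≠ ⊥ := by
  classical
  intro hbot
  have hw : ∀ K : {K : Subgroup Q // K ≠ ⊥}, ∃ (X : Type u) (_ : Group X) (_ : Finite X) (τ : Q →* X),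
      Typ p τ ∧ ¬ ((K : Subgroup Q).map τ).Normal := by
    intro K
    by_contra hc
    push Not at hc
    exact K.2 (eq_bot_iff.2 ((le_sSup (s := coreSet p Q) fun X iX fX τ hτ => hc X iX fX τ hτ).trans hbot.le))
  choose X iX fX τ hτ hnn using hw
  letI := iX
  haveI := fX
  choose Qv hQv using fun K => (hτ K).2
  let Y : Type u := ∀ K, Quotient (QuotientGroup.rightRel (τ K).range)
  haveI : Nonempty Y := ⟨fun K => Quotient.mk _ 1⟩
  let W : Type u := Equiv.Perm (Q × Y)
  haveI : Finite Y := inferInstance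
  haveI : Finite W := inferInstance
  let ρ : Q →* W := leftHom (Equiv.refl (Q × Y))
  have hρ : Function.Injective ρ := leftHom_injective _
  have hex : ∀ K, ∃ f : X K →* W, Function.Injective f ∧ ∀ s, f (τ K s) = ρ s := by
    intro K
    obtain ⟨e, he⟩ := exists_split (τ K) (hτ K).1
    let Z : Type u := ∀ L : {L // L ≠ K}, Quotient (QuotientGroup.rightRel (τ L).range)
    haveI : Nonempty Z := ⟨fun L => Quotient.mk _ 1⟩
    let E : X K × Z ≃ Q × Y := ((e.prodCongr (Equiv.refl Z)).trans (Equiv.prodAssoc _ _ _)).trans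
      ((Equiv.refl Q).prodCongr (Equiv.piSplitAt K fun L => Quotient (QuotientGroup.rightRel (τ L).range)).symm)
    refine ⟨leftHom E, leftHom_injective E, fun s => Equiv.ext fun z => ?_⟩
    obtain ⟨⟨g, y⟩, rfl⟩ := E.surjective z
    show E (τ K s * (E.symm (E (g, y))).1, (E.symm (E (g, y))).2) = (s * (E (g, y)).1, (E (g, y)).2)
    rw [E.symm_apply_apply]
    show ((e (τ K s * g)).1, (Equiv.piSplitAt K fun L => Quotient (QuotientGroup.rightRel (τ L).range)).symm ((e (τ K s * g)).2, y)) = _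
    rw [he]
    rfl
  choose f hf hfρ using hex
  have hrange : ∀ K, (τ K).range.map (f K) = ρ.range := fun K => by
    rw [MonoidHom.map_range]
    exact congrArg _ (MonoidHom.ext (hfρ K))
  have hinc : ∀ K, Inc p (⟨(⊤ : Subgroup (X K)).map (f K), (Qv K).map (f K),
      (zc p (⊤ : Subgroup (X K)) (τ K).range).map (f K)⟩ : Vx W) ρ.range := fun K => by
    have := (hQv K).map (hf K)
    rwa [hrange K] at this
  obtain ⟨T, hT, hTne, hTn⟩ := exists_inv hp2 (hinc ⟨⊤, top_ne_bot⟩)
  have hTe : (T.comap ρ).map ρ = T := map_comap_eq_self hT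
  obtain ⟨K, hK⟩ : ∃ K, K = T.comap ρ := ⟨_, rfl⟩
  have hne : K ≠ ⊥ := fun e => hTne (by rw [← hTe, ← hK, e, Subgroup.map_bot])
  obtain ⟨K0, hK0⟩ : ∃ K0 : {K : Subgroup Q // K ≠ ⊥}, (K0 : Subgroup Q) = K := ⟨⟨K, hne⟩, rfl⟩
  refine hnn K0 ⟨fun x hx g => ?_⟩
  have hmapT : ((K0 : Subgroup Q).map (τ K0)).map (f K0) = T := by
    rw [Subgroup.map_map, show (f K0).comp (τ K0) = ρ from MonoidHom.ext (hfρ K0), hK0, hK, hTe]
  have h2 := hTn _ (hinc K0) (f K0 g) ⟨g, trivial, rfl⟩ (f K0 x) (hmapT.le ⟨x, hx, rfl⟩)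
  rw [← map_inv, ← map_mul, ← map_mul] at h2
  exact (mem_map_inj (hf K0)).1 (hmapT.ge h2)

theorem coreK_isCharPFunctor : Cfsg.IsCharPFunctor.{u} p (coreK p) :=
  ⟨fun Q _ _ _ _ => coreK_ne_bot hp2 Q, fun Q R _ _ _ _ φ => map_coreK φ⟩

end CfsgLib.CommonCore
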