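import Cfsg.Agent.Lib.LocalEvenB.PushFam.Embed

/-!
# A common core: vertices, edges and walks

A vertex is a group with its core and module; an edge at a vertex is a Sylow subgroup with which the vertex
meets the hypotheses of pushing up, has an offender, and some chief factor of the core on which an element of
the Sylow subgroup outside the core does not act quadratically.
-/

set_option autoImplicit false
set_option linter.all false

namespace CfsgLib.CommonCore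

open Subgroup CfsgLib.PushUp
open CfsgLib.PushFam (Bad Vx map_zc map_om mem_map_inj)
open scoped commutatorElement

variable {W : Type*} [Group W]

theorem comm_mul (x u v : W) : ⁅x, u * v⁆ = ⁅x, u⁆ * (u * ⁅x, v⁆ * u⁻¹) := by
  simp only [commutatorElement_def]; group

theorem mul_comm' (a b c : W) : ⁅a * b, c⁆ = a * ⁅b, c⁆ * a⁻¹ * ⁅a, c⁆ := by
  simp only [commutatorElement_def]; group

theorem comm_one_iff {a b : W} : ⁅a, b⁆ = 1 ↔ a * b = b * a := commutatorElement_eq_one_iff_mul_comm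

/-- For every element of `S` outside `Q` some chief factor of `G` inside `Q` is not quadratic. -/
def BadFactor (G S Q : Subgroup W) : Prop :=
  ∀ u ∈ S, u ∉ Q → ∃ X Y : Subgroup W, Stable G X ∧ Stable G Y ∧ Y ≤ X ∧ X ≤ Q ∧
    (∀ N : Subgroup W, Stable G N → Y ≤ N → N ≤ X → N = Y ∨ N = X) ∧
    ∃ d ∈ X, ∃ a ∈ zpowers u, ∃ b ∈ zpowers u, ⁅⁅d, a⁆, b⁆ ∉ Y

/-- An edge at a vertex. -/
structure Inc (p : ℕ) (v : Vx W) (P : Subgroup W) : Prop where
  data : ∃ M, Bad p v.G P v.Q M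
  off : Off p v.G P v.Q
  zeq : v.Z = zc p v.G P
  bad : BadFactor v.G P v.Q

section Map

variable {K : Type*} [Group K] [Finite K] {p : ℕ} [Fact p.Prime] {f : K →* W}

theorem stable_map {G H : Subgroup K} (h : Stable G H) : Stable (G.map f) (H.map f) := by
  rintro _ ⟨g, hg, rfl⟩ _ ⟨x, hx, rfl⟩
  exact ⟨g * x * g⁻¹, h g hg x hx, by rw [map_mul, map_mul, map_inv]⟩

theorem badFactor_map (hf : Function.Injective f) {G S Q : Subgroup K} (h : BadFactor G S Q) :
    BadFactor (G.map f) (S.map f) (Q.map f) := by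
  rintro _ ⟨u, hu, rfl⟩ hfu
  obtain ⟨X, Y, hX, hY, hYX, hXQ, hmin, d, hd, a, ha, b, hb, hne⟩ := h u hu fun hq => hfu ⟨u, hq, rfl⟩
  refine ⟨X.map f, Y.map f, stable_map hX, stable_map hY, map_mono hYX, map_mono hXQ, fun N hN h1 h2 => ?_,
    f d, ⟨d, hd, rfl⟩, f a, ?_, f b, ?_, fun e => hne ?_⟩
  · have hr : (N.comap f).map f = N := map_comap_eq_self (h2.trans (map_le_range f X))
    rcases hmin (N.comap f) (fun g hg x hx => by
      rw [mem_comap, map_mul, map_mul, map_inv]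
      exact hN _ ⟨g, hg, rfl⟩ _ hx) (fun x hx => h1 ⟨x, hx, rfl⟩) (fun x hx => (mem_map_inj hf).1 (h2 hx))
      with e | e
    · left; rw [← hr, e]
    · right; rw [← hr, e]
  · rw [← MonoidHom.map_zpowers]; exact ⟨a, ha, rfl⟩
  · rw [← MonoidHom.map_zpowers]; exact ⟨b, hb, rfl⟩
  · rwa [← map_commutatorElement, ← map_commutatorElement, mem_map_inj hf] at e

theorem off_map (hf : Function.Injective f) {G S Q : Subgroup K} (h : Off p G S Q) :
    Off p (G.map f) (S.map f) (Q.map f) := by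
  obtain ⟨A, h1, h2, h3, h4⟩ := h
  refine ⟨A.map f, map_mono h1, map_mono h2, fun e => h3 (map_injective hf e), ?_⟩
  rw [← map_zc hf, ← CfsgLib.PushFam.map_inf_centralizer' hf, card_map_of_injective hf, card_map_of_injective hf,
    card_map_of_injective hf, card_map_of_injective hf]
  exact h4

/-- Edges are carried along injective homomorphisms. -/
theorem Inc.map (hf : Function.Injective f) {v : Vx K} {P : Subgroup K} (h : Inc p v P) :
    Inc p ⟨v.G.map f, v.Q.map f, v.Z.map f⟩ (P.map f) where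
  data := by
    obtain ⟨M, hM⟩ := h.data
    exact ⟨_, hM.map hf⟩
  off := off_map hf h.off
  zeq := by
    show v.Z.map f = _
    rw [h.zeq, map_zc hf]
  bad := badFactor_map hf h.bad

end Map

variable [Finite W] {p : ℕ} [Fact p.Prime] {v : Vx W} {P : Subgroup W}

theorem Inc.tr (h : Inc p v P) (a : W) : Inc p (v.tr a) (cj a P) :=
  h.map (f := (MulAut.conj a).toMonoidHom) (MulAut.conj a).injective

theorem Inc.facts (h : Inc p v P) : ∃ M, Bad p v.G P v.Q M ∧ Facts p v.G P v.Q M :=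
  let ⟨M, hM⟩ := h.data
  ⟨M, hM, hM.facts h.off⟩

theorem Inc.PG (h : Inc p v P) : P ≤ v.G := let ⟨_, hM⟩ := h.data; hM.SG

theorem Inc.pP (h : Inc p v P) : IsPGroup p P := let ⟨_, hM⟩ := h.data; hM.pS

theorem Inc.QP (h : Inc p v P) : v.Q ≤ P := let ⟨_, hM⟩ := h.data; hM.QS

theorem Inc.QG (h : Inc p v P) : v.Q ≤ v.G := h.QP.trans h.PG

theorem Inc.Qn (h : Inc p v P) : Stable v.G v.Q := let ⟨_, hM⟩ := h.data; hM.Qn

theorem Inc.Zn (h : Inc p v P) : Stable v.G v.Z := h.zeq ▸ zc_stable _ _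

theorem Inc.ZQ (h : Inc p v P) : v.Z ≤ v.Q := by
  obtain ⟨M, hM⟩ := h.data
  rw [h.zeq]; exact hM.zc_le_Q

theorem Inc.ZP (h : Inc p v P) : v.Z ≤ P := h.ZQ.trans h.QP

theorem Inc.ZG (h : Inc p v P) : v.Z ≤ v.G := h.ZP.trans h.PG

theorem Inc.Zc (h : Inc p v P) {z q : W} (hz : z ∈ v.Z) (hq : q ∈ v.Q) : z * q = q * z := by
  obtain ⟨M, hM⟩ := h.data
  exact hM.zc_comm (h.zeq ▸ hz) hq

theorem Inc.Zp (h : Inc p v P) {z : W} (hz : z ∈ v.Z) : z ^ p = 1 := by
  obtain ⟨M, hM⟩ := h.data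
  exact hM.zc_pow z (h.zeq ▸ hz)

theorem Inc.om_le_Z (h : Inc p v P) : om p P ≤ v.Z := h.zeq ▸ om_le_zc _ _

theorem Inc.om_ne_bot (h : Inc p v P) : om p P ≠ ⊥ := let ⟨_, hM⟩ := h.data; hM.om_ne_bot

theorem Inc.cz (h : Inc p v P) {x : W} (hx : x ∈ P) (hc : ∀ z ∈ v.Z, z * x = x * z) : x ∈ v.Q := by
  obtain ⟨M, hM⟩ := h.data
  exact hM.inf_cz.le ⟨hx, mem_centralizer_iff.2 (h.zeq ▸ hc)⟩

theorem Inc.fixed (h : Inc p v P) {x z : W} (hx : x ∈ P) (hxQ : x ∉ v.Q) (hz : z ∈ v.Z)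
    (hc : x * z = z * x) : z ∈ om p P := by
  obtain ⟨M, -, F⟩ := h.facts
  exact F.fixed x hx hxQ z (h.zeq ▸ hz) hc

theorem Inc.quad (h : Inc p v P) {x z : W} (hx : x ∈ P) (hz : z ∈ v.Z) : ⁅x, z⁆ ∈ om p P := by
  obtain ⟨M, -, F⟩ := h.facts
  rw [commutatorElement_def]
  exact F.quad x hx z (h.zeq ▸ hz)

theorem Inc.card (h : Inc p v P) :
    Nat.card ↥v.Z * Nat.card ↥v.Q = Nat.card ↥P * Nat.card ↥(om p P) := by
  obtain ⟨M, -, F⟩ := h.facts
  rw [h.zeq]; exact F.cardZ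

theorem Inc.tr_self (h : Inc p v P) {g : W} (hg : g ∈ v.G) : v.tr g = v := Vx.tr_eq hg h.Qn h.Zn

theorem Inc.conj (h : Inc p v P) {g : W} (hg : g ∈ v.G) : Inc p v (cj g P) := by
  have := h.tr g
  rwa [h.tr_self hg] at this

/-- Two edges at a vertex generate it, or they agree modulo elements of order prime to `p` over the core. -/
theorem Inc.gen (h : Inc p v P) {g : W} (hg : g ∈ v.G) : P ⊔ cj g P = v.G ∨
    ∀ x ∈ P, ∃ y ∈ cj g P, ∃ n : ℕ, ¬ p ∣ n ∧ (x * y⁻¹) ^ n ∈ v.Q := by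
  obtain ⟨M, hM, F⟩ := h.facts
  by_cases hgM : g ∈ M
  swap
  · exact Or.inl (hM.gen hg hgM)
  refine Or.inr fun x hx => ?_
  obtain ⟨y, hy, hc⟩ := F.Mnorm g⁻¹ (inv_mem hgM) x hx
  obtain ⟨k, hk⟩ : ∃ k, k = x * (g * y * g⁻¹)⁻¹ := ⟨_, rfl⟩
  have hkG : k ∈ v.G := hk ▸ mul_mem (h.PG hx) (inv_mem (cj_self hg (h.PG hy)))
  have hkC : ∀ z ∈ v.Z, z * k = k * z := by
    intro z hz
    obtain ⟨c, hc'⟩ : ∃ c, c = y⁻¹ * (g⁻¹ * x * g⁻¹⁻¹) := ⟨_, rfl⟩
    rw [← hc'] at hc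
    have ek : k = (x * g) * c * (x * g)⁻¹ := by rw [hk, hc']; group
    have h1 : (x * g)⁻¹ * z * (x * g) ∈ zc p v.G P := h.zeq ▸ h.Zn.inv (mul_mem (h.PG hx) hg) hz
    have h2 := mem_centralizer_iff.1 hc _ h1
    rw [ek]
    calc z * ((x * g) * c * (x * g)⁻¹) = (x * g) * (((x * g)⁻¹ * z * (x * g)) * c) * (x * g)⁻¹ := by group
      _ = (x * g) * (c * ((x * g)⁻¹ * z * (x * g))) * (x * g)⁻¹ := by rw [h2]
      _ = (x * g) * c * (x * g)⁻¹ * z := by group
  have ho : orderOf k ≠ 0 := (orderOf_pos k).ne'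
  refine ⟨g * y * g⁻¹, conj_mem_cj hy, ordCompl[p] (orderOf k), Nat.not_dvd_ordCompl Fact.out ho, ?_⟩
  rw [← hk]
  obtain ⟨m, hm⟩ : ∃ m, m = k ^ (ordCompl[p] (orderOf k)) := ⟨_, rfl⟩
  rw [← hm]
  have hmp : IsPGroup p (zpowers m) := IsPGroup.of_card (n := (orderOf k).factorization p) (by
    rw [Nat.card_zpowers, hm, orderOf_pow' k (Nat.ordCompl_pos p ho).ne',
      Nat.gcd_eq_right (Nat.ordCompl_dvd (orderOf k) p),
      Nat.div_eq_of_eq_mul_left (Nat.ordCompl_pos p ho) (Nat.ordProj_mul_ordCompl_eq_self (orderOf k) p).symm])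
  have hmG : m ∈ v.G := hm ▸ pow_mem hkG _
  obtain ⟨r, hr, hrm⟩ := hM.syl v.G le_rfl hM.SG _ (zpowers_le.2 hmG) hmp
  have h1 : r⁻¹ * m * r ∈ v.Q := by
    refine h.cz (mem_cj.1 (hrm (mem_zpowers m))) fun z hz => ?_
    have h2 : Commute (r * z * r⁻¹) m := by
      rw [hm]; exact Commute.pow_right (hkC _ (h.Zn r hr z hz)) _
    calc z * (r⁻¹ * m * r) = r⁻¹ * ((r * z * r⁻¹) * m) * r := by group
      _ = r⁻¹ * (m * (r * z * r⁻¹)) * r := by rw [h2.eq]
      _ = r⁻¹ * m * r * z := by group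
  simpa [mul_assoc] using h.Qn r hr _ h1

/-! ### Walks -/

/-- A walk. -/
def Walk (p : ℕ) (v : ℕ → Vx W) (f : ℕ → Subgroup W) (b : ℕ) : Prop :=
  ∀ i < b, Inc p (v i) (f i) ∧ Inc p (v (i + 1)) (f i)

variable {vs : ℕ → Vx W} {fs : ℕ → Subgroup W} {b : ℕ}

theorem Walk.mono (h : Walk p vs fs b) {c : ℕ} (hcb : c ≤ b) : Walk p vs fs c :=
  fun i hi => h i (hi.trans_le hcb)

theorem Walk.shift (h : Walk p vs fs b) (s : ℕ) {c : ℕ} (hc : s + c ≤ b) :
    Walk p (fun i => vs (s + i)) (fun i => fs (s + i)) c :=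
  fun i hi => h (s + i) (by omega)

theorem Walk.rev (h : Walk p vs fs b) :
    Walk p (fun i => vs (b - i)) (fun i => fs (b - 1 - i)) b := by
  intro i hi
  obtain ⟨h1, h2⟩ := h (b - 1 - i) (by omega)
  refine ⟨?_, ?_⟩
  · show Inc p (vs (b - i)) _
    rwa [show b - i = b - 1 - i + 1 by omega]
  · show Inc p (vs (b - (i + 1))) _
    rwa [show b - (i + 1) = b - 1 - i by omega]

theorem Walk.tr (h : Walk p vs fs b) (a : W) :
    Walk p (fun i => (vs i).tr a) (fun i => cj a (fs i)) b :=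
  fun i hi => ⟨(h i hi).1.tr a, (h i hi).2.tr a⟩

/-- Two walks in a row. -/
theorem Walk.append (h : Walk p vs fs b) {vs' : ℕ → Vx W} {fs' : ℕ → Subgroup W} {c : ℕ}
    (h' : Walk p vs' fs' c) (e : vs b = vs' 0) :
    Walk p (fun i => if i ≤ b then vs i else vs' (i - b)) (fun i => if i < b then fs i else fs' (i - b))
      (b + c) := by
  intro i hi
  by_cases hib : i < b
  · obtain ⟨h1, h2⟩ := h i hib
    exact ⟨by simpa [hib.le, hib] using h1, by simpa [show i + 1 ≤ b by omega, hib] using h2⟩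
  · obtain ⟨h1, h2⟩ := h' (i - b) (by omega)
    refine ⟨?_, ?_⟩
    · simp only [hib, if_false]
      by_cases hie : i ≤ b
      · rw [if_pos hie, show i = b by omega, e, Nat.sub_self]
        rwa [show i - b = 0 by omega] at h1
      · rwa [if_neg hie]
    · simp only [hib, if_false, show ¬ i + 1 ≤ b by omega]
      rwa [show i + 1 - b = i - b + 1 by omega]

/-- A vertex is reachable from another. -/
def Reach (p : ℕ) (u w : Vx W) : Prop := ∃ b vs fs, Walk p vs fs b ∧ vs 0 = u ∧ vs b = w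

theorem Reach.symm {u w : Vx W} : Reach p u w → Reach p w u := fun ⟨b, vs, fs, h, h0, h1⟩ =>
  ⟨b, _, _, h.rev, by simpa using h1, by simpa using h0⟩

theorem Reach.refl (u : Vx W) : Reach p u u :=
  ⟨0, fun _ => u, fun _ => ⊥, fun i hi => absurd hi i.not_lt_zero, rfl, rfl⟩

theorem Reach.trans {u w x : Vx W} : Reach p u w → Reach p w x → Reach p u x :=
  fun ⟨b, vs, fs, h, h0, h1⟩ ⟨c, vs', fs', h', h0', h1'⟩ =>
    ⟨b + c, _, _, h.append h' (h1.trans h0'.symm), by simpa using h0, by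
      by_cases hc : b + c ≤ b
      · simp only [hc, if_true]
        have : c = 0 := by omega
        subst this
        rw [Nat.add_zero, h1, ← h0', h1']
      · simp only [hc, if_false]
        rw [show b + c - b = c by omega, h1']⟩

theorem Reach.tr {u w : Vx W} (a : W) : Reach p u w → Reach p (u.tr a) (w.tr a) :=
  fun ⟨b, vs, fs, h, h0, h1⟩ => ⟨b, _, _, h.tr a, by rw [h0], by rw [h1]⟩

theorem Reach.of_edge {u w : Vx W} {P : Subgroup W} (hu : Inc p u P) (hw : Inc p w P) : Reach p u w :=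
  ⟨1, fun i => if i = 0 then u else w, fun _ => P, fun i hi => by
    obtain rfl : i = 0 := by omega
    simpa using ⟨hu, hw⟩, by simp, by simp⟩

end CfsgLib.CommonCore
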