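import Cfsg.Agent.Lib.LocalEven.CommonCore.Critical
import Cfsg.Agent.Lib.PGroups.Basic

/-!
# A common core: the last module is quadratic on the chief factors in the first core

The commutator map of `Dt j` with the next layer is studied modulo a maximal stable subgroup of the layer
`Wt j`; for every translate of the path the double commutator vanishes there.
-/

set_option autoImplicit false
set_option linter.all false

namespace CfsgLib.CommonCore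

open Subgroup CfsgLib.PushUp
open CfsgLib.PushFam (Bad Vx)
open scoped commutatorElement

section Algebra

theorem mem_of_three {A : Type*} [CommGroup A] (E : Subgroup A) {a a' c v : A} {p : ℕ} (hp : Odd p)
    (hv : v ^ p = 1) (ha : a ∈ E) (h1 : v⁻¹ * c * (a'⁻¹ * a) ∈ E) (h2 : (v * c)⁻¹ * (a' * a) ∈ E) :
    v ∈ E ∧ c * a'⁻¹ ∈ E := by
  have hsq : v * v ∈ E := by
    have := mul_mem (mul_mem ha ha) (inv_mem (mul_mem h1 h2))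
    convert this using 1
    refine Additive.ofMul.injective ?_
    simp only [ofMul_mul, ofMul_inv]
    abel
  obtain ⟨m, hm⟩ := hp
  have hvE : v ∈ E := by
    have e : v = (v * v) ^ (m + 1) := by
      rw [← pow_two, ← pow_mul, show 2 * (m + 1) = p + 1 by omega, pow_succ, hv, one_mul]
    rw [e]
    exact pow_mem hsq _
  refine ⟨hvE, ?_⟩
  have := mul_mem (mul_mem hvE h1) (inv_mem ha)
  convert this using 1
  refine Additive.ofMul.injective ?_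
  simp only [ofMul_mul, ofMul_inv]
  abel

theorem eq_one_of_shift {H : Type*} [Group H] {k c v : H} {n p : ℕ} [Fact p.Prime] (hn : ¬ p ∣ n)
    (hv : v ^ p = 1) (hkv : Commute k v) (hkc : k * c * k⁻¹ = v * c) (hc : k ^ n * c = c * k ^ n) : v = 1 := by
  have key : ∀ i : ℕ, k ^ i * c * (k ^ i)⁻¹ = v ^ i * c := by
    intro i
    induction i with
    | zero => simp
    | succ i ih =>
      calc k ^ (i + 1) * c * (k ^ (i + 1))⁻¹ = k * (k ^ i * c * (k ^ i)⁻¹) * k⁻¹ := by rw [pow_succ']; group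
        _ = k * v ^ i * c * k⁻¹ := by rw [ih]; group
        _ = v ^ i * (k * c * k⁻¹) := by rw [(hkv.pow_right i).eq]; group
        _ = _ := by rw [hkc, ← mul_assoc, ← pow_succ]
  have h1 := key n
  rw [hc, mul_inv_cancel_right] at h1
  have h2 : v ^ n = 1 := mul_eq_right.1 h1.symm
  have h3 : Nat.gcd p n = 1 := (Nat.Prime.coprime_iff_not_dvd Fact.out).2 hn
  rw [← pow_one v, ← h3]
  exact pow_gcd_eq_one.2 ⟨hv, h2⟩

end Algebra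

variable {W : Type*} [Group W]

/-- The elements of `G` moving `v` inside `B'`. -/
def stabMod (G B' : Subgroup W) (hB : Stable G B') (v : W) : Subgroup W where
  carrier := {r | r ∈ G ∧ ⁅r, v⁆ ∈ B'}
  one_mem' := ⟨one_mem _, by simp⟩
  mul_mem' := fun {r s} hr hs => ⟨mul_mem hr.1 hs.1, by
    rw [mul_comm']; exact mul_mem (hB r hr.1 _ hs.2) hr.2⟩
  inv_mem' := fun {r} hr => ⟨inv_mem hr.1, by
    have : ⁅r⁻¹, v⁆ = r⁻¹ * ⁅r, v⁆⁻¹ * r := by simp only [commutatorElement_def]; group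
    rw [this]; exact hB.inv hr.1 (inv_mem hr.2)⟩

theorem mem_stabMod {G B' : Subgroup W} {hB : Stable G B'} {v r : W} :
    r ∈ stabMod G B' hB v ↔ r ∈ G ∧ ⁅r, v⁆ ∈ B' := Iff.rfl

/-- The elements of `B` fixed by `R` modulo `B'`. -/
def fixMod (G B B' R : Subgroup W) (hB : Stable G B') (hBG : B ≤ G) : Subgroup W where
  carrier := {v | v ∈ B ∧ ∀ r ∈ R, ⁅r, v⁆ ∈ B'}
  one_mem' := ⟨one_mem _, fun r _ => by simp⟩
  mul_mem' := fun {u v} hu hv => ⟨mul_mem hu.1 hv.1, fun r hr => by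
    rw [comm_mul]; exact mul_mem (hu.2 r hr) (hB u (hBG hu.1) _ (hv.2 r hr))⟩
  inv_mem' := fun {u} hu => ⟨inv_mem hu.1, fun r hr => by
    have : ⁅r, u⁻¹⁆ = u⁻¹ * ⁅r, u⁆⁻¹ * u := by simp only [commutatorElement_def]; group
    rw [this]; exact hB.inv (hBG hu.1) (inv_mem (hu.2 r hr))⟩

theorem fixMod_stable {G B B' R : Subgroup W} (hB : Stable G B') (hBG : B ≤ G) (hBn : Stable G B)
    (hR : Stable G R) : Stable G (fixMod G B B' R hB hBG) := by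
  intro g hg v hv
  refine ⟨hBn g hg v hv.1, fun r hr => ?_⟩
  have : ⁅r, g * v * g⁻¹⁆ = g * ⁅g⁻¹ * r * g, v⁆ * g⁻¹ := by simp only [commutatorElement_def]; group
  rw [this]
  exact hB g hg _ (hv.2 _ (hR.inv hg hr))

theorem le_fixMod {G B B' R : Subgroup W} (hB : Stable G B') (hBG : B ≤ G) (hRG : R ≤ G) (hle : B' ≤ B) :
    B' ≤ fixMod G B B' R hB hBG :=
  fun v hv => ⟨hle hv, fun r hr => hB.comm_right (hRG hr) hv⟩

variable [Finite W] {p : ℕ} [Fact p.Prime] {vs : ℕ → Vx W} {fs : ℕ → Subgroup W} {b : ℕ}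

theorem Crit.Wt_le_G (h : Crit p vs fs b) {j : ℕ} (hj : j < b) : Wt vs j ≤ (vs 0).G :=
  (h.Wt_le hj).trans (h.inc_l h.pos).QG

theorem Crit.core_fix (h : Crit p vs fs b) {B B' : Subgroup W} (hBQ : B ≤ (vs 0).Q)
    (hBn : Stable (vs 0).G B) (hB'n : Stable (vs 0).G B') (hlt : B' < B)
    (hmin : ∀ N : Subgroup W, Stable (vs 0).G N → B' ≤ N → N ≤ B → N = B' ∨ N = B) :
    ∀ q ∈ (vs 0).Q, ∀ v ∈ B, ⁅q, v⁆ ∈ B' := by
  have hI := h.inc_l h.pos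
  obtain ⟨C, hC⟩ : ∃ C, C = fixMod (vs 0).G B B' (vs 0).Q hB'n (hBQ.trans hI.QG) := ⟨_, rfl⟩
  rcases hmin C (hC ▸ fixMod_stable _ _ hBn hI.Qn) (hC ▸ le_fixMod _ _ hI.QG hlt.le)
    (fun v hv => (hC ▸ hv : v ∈ fixMod _ B B' _ _ _).1) with e | e
  swap
  · intro q hq v hv
    have : v ∈ C := e ▸ hv
    exact (hC ▸ this : v ∈ fixMod _ B B' _ hB'n (hBQ.trans hI.QG)).2 q hq
  exfalso
  obtain ⟨Q, hQ⟩ : ∃ Q, Q = (vs 0).Q := ⟨_, rfl⟩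
  rw [← hQ] at hBQ
  haveI : (B'.subgroupOf Q).Normal := ⟨fun x hx g => hB'n _ (hI.QG (hQ ▸ g.2)) _ hx⟩
  haveI : (B.subgroupOf Q).Normal := ⟨fun x hx g => hBn _ (hI.QG (hQ ▸ g.2)) _ hx⟩
  obtain ⟨π, hπ⟩ : ∃ π, π = QuotientGroup.mk' (B'.subgroupOf Q) := ⟨_, rfl⟩
  haveI : ((B.subgroupOf Q).map π).Normal :=
    Subgroup.Normal.map inferInstance π (hπ ▸ QuotientGroup.mk'_surjective _)
  have hne : (B.subgroupOf Q).map π ≠ ⊥ := by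
    intro e'
    refine hlt.not_ge fun v hv => ?_
    have h1 : π ⟨v, hBQ hv⟩ = 1 := mem_bot.1 (e' ▸ mem_map_of_mem π (show (⟨v, hBQ hv⟩ : Q) ∈ B.subgroupOf Q from hv))
    exact (QuotientGroup.eq_one_iff (⟨v, hBQ hv⟩ : Q)).1 (hπ ▸ h1)
  have hp : IsPGroup p (↥Q ⧸ B'.subgroupOf Q) := (hI.pP.to_le (hQ ▸ hI.QP)).to_quotient _
  obtain ⟨w, hw, hw1⟩ := (Subgroup.bot_or_exists_ne_one _).resolve_left (CfsgLib.PGroups.inf_center_ne_bot hp hne)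
  obtain ⟨⟨v, hvQ⟩, hv, rfl⟩ := hw.1
  refine hw1 (hπ ▸ (QuotientGroup.eq_one_iff (⟨v, hvQ⟩ : Q)).2 ?_)
  show v ∈ B'
  rw [← e, hC]
  refine ⟨hv, fun q hq => ?_⟩
  have h2 := Subgroup.mem_center_iff.1 hw.2 (π ⟨q, hQ ▸ hq⟩)
  have h3 : π ⁅(⟨q, hQ ▸ hq⟩ : Q), ⟨v, hvQ⟩⁆ = 1 := by
    rw [map_commutatorElement, commutatorElement_eq_one_iff_mul_comm]; exact h2
  subst hπ
  exact (QuotientGroup.eq_one_iff (N := B'.subgroupOf Q) ⁅(⟨q, hQ ▸ hq⟩ : Q), ⟨v, hvQ⟩⁆).1 h3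

/-- The centralizer modulo `B` of the next layer. -/
def lay (h : Crit p vs fs b) {j : ℕ} (hj : 2 * (j + 1) < b) (B : Subgroup W) : Subgroup W where
  carrier := {d | d ∈ Dt vs j ∧ ∀ w ∈ Wt vs (j + 1), ⁅d, w⁆ ∈ B}
  one_mem' := ⟨one_mem _, fun w _ => by simp⟩
  mul_mem' := fun {c d} hc hd => ⟨mul_mem hc.1 hd.1, fun w hw => by
    rw [mul_comm', ← mem_centralizer_iff.1 hc.1.2 _ (h.Dt_comm_Wt hj hd.1 hw), mul_inv_cancel_right]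
    exact mul_mem (hd.2 w hw) (hc.2 w hw)⟩
  inv_mem' := fun {d} hd => ⟨inv_mem hd.1, fun w hw => by
    have e : ⁅d⁻¹, w⁆ = d⁻¹ * ⁅d, w⁆⁻¹ * d := by simp only [commutatorElement_def]; group
    have h1 : Commute ⁅d, w⁆ d := mem_centralizer_iff.1 hd.1.2 _ (h.Dt_comm_Wt hj hd.1 hw)
    rw [e, mul_assoc, h1.inv_left.eq, inv_mul_cancel_left]
    exact inv_mem (hd.2 w hw)⟩

theorem mem_lay {h : Crit p vs fs b} {j : ℕ} {hj : 2 * (j + 1) < b} {B : Subgroup W} {d : W} :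
    d ∈ lay h hj B ↔ d ∈ Dt vs j ∧ ∀ w ∈ Wt vs (j + 1), ⁅d, w⁆ ∈ B := Iff.rfl

theorem lay_stable (h : Crit p vs fs b) {j : ℕ} (hj : 2 * (j + 1) < b) {B : Subgroup W}
    (hB : Stable (vs 0).G B) : Stable (vs 0).G (lay h hj B) := by
  intro g hg d hd
  refine ⟨h.Dt_stable j g hg d hd.1, fun w hw => ?_⟩
  have : ⁅g * d * g⁻¹, w⁆ = g * ⁅d, g⁻¹ * w * g⁆ * g⁻¹ := by simp only [commutatorElement_def]; group
  rw [this]
  exact hB g hg _ (hd.2 _ ((Wt_stable (j + 1)).inv hg hw))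

variable {j : ℕ} (h : Crit p vs fs b) (hj : 2 * (j + 1) < b)
include h hj

/-- Commutators with a conjugate under the last module. -/
theorem Crit.conj_formula {d x w : W} (hd : d ∈ Dt vs j) (hx : x ∈ (vs b).Z) (hw : w ∈ Wt vs (j + 1)) :
    ⁅x * d * x⁻¹, w⁆ = (⁅x, ⁅d, ⁅x, w⁆⁆⁆ * ⁅d, ⁅x, w⁆⁆)⁻¹ * (⁅x, ⁅d, w⁆⁆ * ⁅d, w⁆) := by
  have hxG := h.last_le_G hx
  obtain ⟨u, hu⟩ : ∃ u, u = ⁅x, w⁆ := ⟨_, rfl⟩
  obtain ⟨a, ha⟩ : ∃ a, a = ⁅d, w⁆ := ⟨_, rfl⟩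
  obtain ⟨c, hc⟩ : ∃ c, c = ⁅d, u⁆ := ⟨_, rfl⟩
  have huW : u ∈ Wt vs (j + 1) := hu ▸ (Wt_stable _).comm_right hxG hw
  have hcW : c ∈ Wt vs j := hc ▸ h.Dt_comm_Wt hj hd huW
  have haW : a ∈ Wt vs j := ha ▸ h.Dt_comm_Wt hj hd hw
  have hxu : x * u = u * x := comm_one_iff.1 (hu ▸ h.Wt_quad hj hx hx hw)
  have e1 : x⁻¹ * w * x = u⁻¹ * w := by
    have : x⁻¹ * u * x = u := by rw [mul_assoc, ← hxu, inv_mul_cancel_left]
    calc x⁻¹ * w * x = x⁻¹ * u⁻¹ * x * w := by rw [hu, commutatorElement_def]; group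
      _ = (x⁻¹ * u * x)⁻¹ * w := by group
      _ = _ := by rw [this]
  have e2 : ⁅d, u⁻¹ * w⁆ = c⁻¹ * a := by
    have e : ⁅d, u⁻¹⁆ = u⁻¹ * ⁅d, u⁆⁻¹ * u := by simp only [commutatorElement_def]; group
    rw [comm_mul, e, ← hc, ← ha, h.Wt_comm hj (inv_mem huW) (inv_mem (Wt_mono (Nat.le_succ j) hcW)),
      inv_mul_cancel_right, h.Wt_comm hj (inv_mem huW) (Wt_mono (Nat.le_succ j) haW), mul_inv_cancel_right]
  calc ⁅x * d * x⁻¹, w⁆ = x * ⁅d, x⁻¹ * w * x⁆ * x⁻¹ := by simp only [commutatorElement_def]; group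
    _ = (x * c * x⁻¹)⁻¹ * (x * a * x⁻¹) := by rw [e1, e2]; group
    _ = _ := by rw [← hu, ← hc, ← ha]; simp only [commutatorElement_def]; group

variable {B B' : Subgroup W}

/-- The double commutator at a translate of the next module. -/
theorem Crit.gen_step (hp2 : p ≠ 2) (hBW : B ≤ Wt vs j) (hBn : Stable (vs 0).G B)
    (hB'n : Stable (vs 0).G B') (hlt : B' < B)
    (hmin : ∀ N : Subgroup W, Stable (vs 0).G N → B' ≤ N → N ≤ B → N = B' ∨ N = B)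
    {d x g z : W} (hd : d ∈ lay h hj B) (hx : x ∈ (vs b).Z) (hg : g ∈ (vs 0).G) (hz : z ∈ (vs (j + 1)).Z) :
    ⁅x, ⁅d, ⁅x, g * z * g⁻¹⁆⁆⁆ ∈ B' := by
  have hI := h.inc_l h.pos
  have hxG := h.last_le_G hx
  have hBQ : B ≤ (vs 0).Q := hBW.trans (h.Wt_le (by omega))
  have hBG : B ≤ (vs 0).G := hBQ.trans hI.QG
  have hQB := h.core_fix hBQ hBn hB'n hlt hmin
  obtain ⟨w, hw⟩ : ∃ w, w = g * z * g⁻¹ := ⟨_, rfl⟩
  have hwW : w ∈ Wt vs (j + 1) := hw ▸ mem_Wt hg le_rfl hz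
  rw [← hw]
  obtain ⟨u, hu⟩ : ∃ u, u = ⁅x, w⁆ := ⟨_, rfl⟩
  obtain ⟨a, ha⟩ : ∃ a, a = ⁅d, w⁆ := ⟨_, rfl⟩
  obtain ⟨c, hc⟩ : ∃ c, c = ⁅d, u⁆ := ⟨_, rfl⟩
  obtain ⟨v, hv⟩ : ∃ v, v = ⁅x, c⁆ := ⟨_, rfl⟩
  obtain ⟨a', ha'⟩ : ∃ a', a' = ⁅x, a⁆ := ⟨_, rfl⟩
  rw [← hu, ← hc, ← hv]
  have huW : u ∈ Wt vs (j + 1) := hu ▸ (Wt_stable _).comm_right hxG hwW
  have hcB : c ∈ B := hc ▸ hd.2 u huW
  have haB : a ∈ B := ha ▸ hd.2 w hwW
  have hvB : v ∈ B := hv ▸ hBn.comm_right hxG hcB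
  have ha'B : a' ∈ B := ha' ▸ hBn.comm_right hxG haB
  -- elements commuting with the translate of the last module
  have hy : ∀ y ∈ cj g (vs b).Z, ∀ d' ∈ Dt vs j, ⁅d', w⁆ * y = y * ⁅d', w⁆ := by
    intro y hy d' hd'
    obtain ⟨e, he, rfl⟩ := hy
    obtain ⟨o, ho, e'⟩ := hw ▸ h.Dt_comm (j := j) (by omega) hd' hg hz
    rw [← e']
    show g * o * g⁻¹ * (g * e * g⁻¹) = g * e * g⁻¹ * (g * o * g⁻¹)
    have h1 : e * o = o * e := ho.2.1 e (h.last_le_edge (i := j) (by omega) he)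
    calc g * o * g⁻¹ * (g * e * g⁻¹) = g * (o * e) * g⁻¹ := by group
      _ = g * (e * o) * g⁻¹ := by rw [h1]
      _ = _ := by group
  have hP1 : ⁅x⁻¹ * d * x⁻¹⁻¹, w⁆ = v⁻¹ * c * (a'⁻¹ * a) ∧ ⁅x * d * x⁻¹, w⁆ = (v * c)⁻¹ * (a' * a) := by
    refine ⟨?_, by rw [h.conj_formula hj hd.1 hx hwW, ← hu, ← hc, ← ha, ← hv, ← ha']⟩
    have hinv : ∀ {m : W}, m ∈ Wt vs (j + 1) → ⁅x⁻¹, m⁆ = ⁅x, m⁆⁻¹ := by
      intro m hm
      have h1 : Commute x ⁅x, m⁆ := comm_one_iff.1 (h.Wt_quad hj hx hx hm)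
      calc ⁅x⁻¹, m⁆ = x⁻¹ * ⁅x, m⁆⁻¹ * x := by simp only [commutatorElement_def]; group
        _ = _ := by rw [mul_assoc, ← h1.inv_right.eq, inv_mul_cancel_left]
    have hcx : ⁅d, u⁻¹⁆ = c⁻¹ := by
      have e : ⁅d, u⁻¹⁆ = u⁻¹ * ⁅d, u⁆⁻¹ * u := by simp only [commutatorElement_def]; group
      rw [e, ← hc, mul_assoc, h.Wt_comm hj (inv_mem (Wt_mono (Nat.le_succ j) (hBW hcB))) huW, ← mul_assoc,
        inv_mul_cancel, one_mul]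
    rw [h.conj_formula hj hd.1 (inv_mem hx) hwW, hinv hwW, ← hu, hcx, ← ha,
      hinv (inv_mem (Wt_mono (Nat.le_succ j) (hBW hcB))), h.Wt_comm_inv hj hxG (Wt_mono (Nat.le_succ j) (hBW hcB)),
      ← hv, inv_inv, hinv (Wt_mono (Nat.le_succ j) (hBW haB)), ← ha']
    have hcomm : c⁻¹⁻¹ * v⁻¹ = v⁻¹ * c :=
      (inv_inv c).symm ▸ h.Wt_comm (j := j) (by omega) (hBW hcB) (inv_mem (hBW hvB))
    rw [mul_inv_rev, hcomm]
  have halg : ∀ y ∈ cj g (vs b).Z, v * y = y * v ∧ c * a'⁻¹ * y = y * (c * a'⁻¹) := by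
    intro y hy'
    letI : CommGroup ↥(Wt vs j) := { (inferInstance : Group ↥(Wt vs j)) with
      mul_comm := fun r s => Subtype.ext (h.Wt_comm (by omega) r.2 s.2) }
    have hodd : Odd p := (Fact.out : p.Prime).odd_of_ne_two hp2
    have := mem_of_three ((centralizer ({y} : Set W)).subgroupOf (Wt vs j)) (a := ⟨a, hBW haB⟩)
      (a' := ⟨a', hBW ha'B⟩) (c := ⟨c, hBW hcB⟩) (v := ⟨v, hBW hvB⟩) hodd
      (Subtype.ext (h.Wt_pow (by omega) (hBW hvB))) (mem_centralizer_singleton_iff.2 (ha ▸ hy y hy' d hd.1))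
      (mem_centralizer_singleton_iff.2 (by
        show v⁻¹ * c * (a'⁻¹ * a) * y = y * (v⁻¹ * c * (a'⁻¹ * a))
        rw [← hP1.1]; exact hy y hy' _ (h.Dt_stable j _ (inv_mem hxG) d hd.1)))
      (mem_centralizer_singleton_iff.2 (by
        show (v * c)⁻¹ * (a' * a) * y = y * ((v * c)⁻¹ * (a' * a))
        rw [← hP1.2]; exact hy y hy' _ (h.Dt_stable j _ hxG d hd.1)))
    exact ⟨mem_centralizer_singleton_iff.1 this.1, mem_centralizer_singleton_iff.1 this.2⟩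
  have hedge : cj g (fs 0) = cj g (vs b).Z ⊔ (vs 0).Q := by
    conv_lhs => rw [h.cover]
    show ((vs b).Z ⊔ (vs 0).Q).map _ = _
    rw [Subgroup.map_sup]
    congr 1
    exact CfsgLib.PushFam.st_cj_eq hI.Qn hg
  have hstab : ∀ m ∈ B, (∀ y ∈ cj g (vs b).Z, m * y = y * m) → cj g (fs 0) ≤ stabMod (vs 0).G B' hB'n m := by
    intro m hm hmy
    rw [hedge]
    refine sup_le (fun y hy' => ⟨?_, ?_⟩) fun q hq => ⟨hI.QG hq, hQB q hq m hm⟩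
    · obtain ⟨e, he, rfl⟩ := hy'
      exact cj_self hg (h.last_le_G he)
    · rw [comm_one_iff.2 (hmy y hy').symm]; exact one_mem _
  have hvy := hstab v hvB fun y hy' => (halg y hy').1
  have hc'B : c * a'⁻¹ ∈ B := mul_mem hcB (inv_mem ha'B)
  have hcy := hstab _ hc'B fun y hy' => (halg y hy').2
  have hvx : fs 0 ≤ stabMod (vs 0).G B' hB'n v := by
    rw [h.cover]
    refine sup_le (fun e he => ⟨h.last_le_G he, ?_⟩) fun q hq => ⟨hI.QG hq, hQB q hq v hvB⟩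
    rw [hv, h.Wt_quad (j := j) (by omega) hx he (hBW hcB)]
    exact one_mem _
  have hxf : x ∈ fs 0 := h.last_le_edge h.pos hx
  rcases hI.gen hg with e | e
  · have hfix : v ∈ fixMod (vs 0).G B B' (vs 0).G hB'n hBG :=
      ⟨hvB, fun r hr => (sup_le hvx hvy (e.ge hr)).2⟩
    rcases hmin _ (fixMod_stable _ _ hBn fun r hr s hs => cj_self hr hs) (le_fixMod _ _ le_rfl hlt.le)
      (fun m hm => hm.1) with e' | e'
    · exact e'.le hfix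
    · rw [hv]
      exact (e'.ge hcB).2 x hxG
  obtain ⟨y, hy0, n, hn, hkn⟩ := e x hxf
  obtain ⟨k, hk⟩ : ∃ k, k = x * y⁻¹ := ⟨_, rfl⟩
  rw [← hk] at hkn
  have hkG : k ∈ (vs 0).G := hk ▸ mul_mem hxG (inv_mem (hvy hy0).1)
  haveI : (B'.subgroupOf (vs 0).G).Normal := ⟨fun r hr s => hB'n _ s.2 _ hr⟩
  obtain ⟨π, hπ⟩ : ∃ π, π = QuotientGroup.mk' (B'.subgroupOf (vs 0).G) := ⟨_, rfl⟩
  have hπ1 : ∀ {r : ↥(vs 0).G}, (r : W) ∈ B' → π r = 1 := fun hr =>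
    hπ ▸ (QuotientGroup.eq_one_iff _).2 hr
  have hπc : ∀ {r s : W} (hr : r ∈ (vs 0).G) (hs : s ∈ (vs 0).G), ⁅r, s⁆ ∈ B' →
      π ⟨r, hr⟩ * π ⟨s, hs⟩ = π ⟨s, hs⟩ * π ⟨r, hr⟩ := fun hr hs hm => by
    rw [← commutatorElement_eq_one_iff_mul_comm, ← map_commutatorElement]
    exact hπ1 hm
  obtain ⟨c'', hc''⟩ : ∃ c'', c'' = c * a'⁻¹ := ⟨_, rfl⟩
  rw [← hc''] at hc'B hcy
  have hxc : ⁅x, c''⁆ = v := by
    rw [hc'', h.Wt_comm_mul (j := j) (by omega) hxG (hBW hcB) (inv_mem (hBW ha'B)), ← hv,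
      h.Wt_comm_inv (j := j) (by omega) hxG (hBW ha'B), ha', h.Wt_quad (j := j) (by omega) hx hx (hBW haB),
      inv_one, mul_one]
  have h1 := eq_one_of_shift (k := π ⟨k, hkG⟩) (c := π ⟨c'', hBG hc'B⟩) (v := π ⟨v, hBG hvB⟩) hn ?_ ?_ ?_ ?_
  · exact (QuotientGroup.eq_one_iff (⟨v, hBG hvB⟩ : ↥(vs 0).G)).1 (hπ ▸ h1)
  · rw [← map_pow]
    exact hπ1 (by show v ^ p ∈ B'; rw [h.Wt_pow (j := j) (by omega) (hBW hvB)]; exact one_mem _)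
  · refine hπc hkG (hBG hvB) ?_
    have hs : x * y⁻¹ ∈ stabMod (vs 0).G B' hB'n v := mul_mem (hvx hxf) (inv_mem (hvy hy0))
    exact hk ▸ hs.2
  · have hxy := hπc (inv_mem (hvy hy0).1) (hBG hc'B) (inv_mem (hcy hy0)).2
    have e1 : (⟨k, hkG⟩ : ↥(vs 0).G) = ⟨x, hxG⟩ * ⟨y⁻¹, inv_mem (hvy hy0).1⟩ := Subtype.ext hk
    have e2 : (⟨x, hxG⟩ : ↥(vs 0).G) * ⟨c'', hBG hc'B⟩ * ⟨x, hxG⟩⁻¹ = ⟨v, hBG hvB⟩ * ⟨c'', hBG hc'B⟩ :=
      Subtype.ext (by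
        show x * c'' * x⁻¹ = v * c''
        rw [← hxc, commutatorElement_def]; group)
    calc π ⟨k, hkG⟩ * π ⟨c'', hBG hc'B⟩ * (π ⟨k, hkG⟩)⁻¹
        = π ⟨x, hxG⟩ * (π ⟨y⁻¹, inv_mem (hvy hy0).1⟩ * π ⟨c'', hBG hc'B⟩ * (π ⟨y⁻¹, inv_mem (hvy hy0).1⟩)⁻¹) *
            (π ⟨x, hxG⟩)⁻¹ := by rw [e1, map_mul]; group
      _ = π (⟨x, hxG⟩ * ⟨c'', hBG hc'B⟩ * ⟨x, hxG⟩⁻¹) := by rw [hxy, mul_inv_cancel_right, map_mul, map_mul, map_inv]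
      _ = _ := by rw [e2, map_mul]
  · rw [← map_pow]
    exact hπc (pow_mem hkG n) (hBG hc'B) (hQB _ hkn _ hc'B)

/-- The symmetrized double commutator everywhere on the next layer. -/
theorem Crit.step (hp2 : p ≠ 2) (hBW : B ≤ Wt vs j) (hBn : Stable (vs 0).G B)
    (hB'n : Stable (vs 0).G B') (hlt : B' < B)
    (hmin : ∀ N : Subgroup W, Stable (vs 0).G N → B' ≤ N → N ≤ B → N = B' ∨ N = B)
    {d x x' : W} (hd : d ∈ lay h hj B) (hx : x ∈ (vs b).Z) (hx' : x' ∈ (vs b).Z) :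
    ⁅⁅d, x⁆, x'⁆ ∈ lay h hj B' := by
  have hDn := h.Dt_stable j
  have hdD : d ∈ Dt vs j := hd.1
  refine ⟨hDn.comm_left (h.last_le_G hx') (hDn.comm_left (h.last_le_G hx) hdD), ?_⟩
  -- the square
  have hsq : ∀ y ∈ (vs b).Z, ∀ w ∈ Wt vs (j + 1), ⁅y, ⁅d, ⁅y, w⁆⁆⁆ ∈ B' := by
    intro y hy w hw
    have hyG := h.last_le_G hy
    induction hw using closure_induction with
    | mem m hm =>
      obtain ⟨g, hg, i, hi, hm⟩ := hm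
      rcases hi.lt_or_eq with hlt' | rfl
      · have hmj : m ∈ Wt vs j := subset_closure ⟨g, hg, i, by omega, hm⟩
        rw [comm_one_iff.2 (mem_centralizer_iff.1 hdD.2 _ ((Wt_stable j).comm_right hyG hmj)).symm,
          commutatorElement_one_right]
        exact one_mem _
      · have := h.gen_step hj hp2 hBW hBn hB'n hlt hmin hd hy hg hm
        rwa [show g * (g⁻¹ * m * g) * g⁻¹ = m by group] at this
    | one => simp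
    | mul r s hr hs hr' hs' =>
      have hr1 := (Wt_stable (j + 1)).comm_right hyG hr
      have hs1 := (Wt_stable (j + 1)).comm_right hyG hs
      rw [h.Wt_comm_mul hj hyG hr hs, comm_mul,
        h.Wt_comm hj hr1 (Wt_mono (Nat.le_succ j) (h.Dt_comm_Wt hj hdD hs1)), mul_inv_cancel_right,
        h.Wt_comm_mul (j := j) (by omega) hyG (h.Dt_comm_Wt hj hdD hr1) (h.Dt_comm_Wt hj hdD hs1)]
      exact mul_mem hr' hs'
    | inv r hr hr' =>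
      have hr1 := (Wt_stable (j + 1)).comm_right hyG hr
      have hc1 := h.Dt_comm_Wt hj hdD hr1
      have e : ∀ m : W, ⁅d, m⁻¹⁆ = m⁻¹ * ⁅d, m⁆⁻¹ * m := fun m => by simp only [commutatorElement_def]; group
      rw [h.Wt_comm_inv hj hyG hr, e, mul_assoc, h.Wt_comm hj (inv_mem (Wt_mono (Nat.le_succ j) hc1)) hr1,
        inv_mul_cancel_left, h.Wt_comm_inv (j := j) (by omega) hyG hc1]
      exact inv_mem hr'
  intro w hw
  have hxG := h.last_le_G hx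
  have hxG' := h.last_le_G hx'
  have hu : ⁅x, w⁆ ∈ Wt vs (j + 1) := (Wt_stable _).comm_right hxG hw
  have hu' : ⁅x', w⁆ ∈ Wt vs (j + 1) := (Wt_stable _).comm_right hxG' hw
  obtain ⟨a, ha⟩ : ∃ a, a = ⁅d, w⁆ := ⟨_, rfl⟩
  obtain ⟨c, hc⟩ : ∃ c, c = ⁅d, ⁅x, w⁆⁆ := ⟨_, rfl⟩
  obtain ⟨c', hc'⟩ : ∃ c', c' = ⁅d, ⁅x', w⁆⁆ := ⟨_, rfl⟩
  have haW : a ∈ Wt vs j := ha ▸ h.Dt_comm_Wt hj hdD hw
  have hcW : c ∈ Wt vs j := hc ▸ h.Dt_comm_Wt hj hdD hu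
  have hc'W : c' ∈ Wt vs j := hc' ▸ h.Dt_comm_Wt hj hdD hu'
  have hj' : 2 * j < b := by omega
  -- the first commutator
  have hone : ∀ {e y : W}, e ∈ Dt vs j → y ∈ (vs b).Z → ∀ m ∈ Wt vs (j + 1),
      ⁅⁅e, y⁆, m⁆ = ⁅y, ⁅e, m⁆⁆⁻¹ * (⁅y, ⁅e, ⁅y, m⁆⁆⁆ * ⁅e, ⁅y, m⁆⁆) := by
    intro e y he hy m hm
    have hyG := h.last_le_G hy
    obtain ⟨a, ha⟩ : ∃ a, a = ⁅e, m⁆ := ⟨_, rfl⟩
    obtain ⟨c, hc⟩ : ∃ c, c = ⁅e, ⁅y, m⁆⁆ := ⟨_, rfl⟩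
    obtain ⟨v, hv⟩ : ∃ v, v = ⁅y, c⁆ := ⟨_, rfl⟩
    obtain ⟨a', ha'⟩ : ∃ a', a' = ⁅y, a⁆ := ⟨_, rfl⟩
    have haW : a ∈ Wt vs j := ha ▸ h.Dt_comm_Wt hj he hm
    have ha'W : a' ∈ Wt vs j := ha' ▸ (Wt_stable j).comm_right hyG haW
    have hf : ⁅y * e⁻¹ * y⁻¹, m⁆ = (⁅y * e * y⁻¹, m⁆)⁻¹ := by
      have hcc : Commute ⁅y * e * y⁻¹, m⁆ (y * e * y⁻¹) := mem_centralizer_iff.1
        (h.Dt_stable j _ hyG e he).2 _ (h.Dt_comm_Wt hj (h.Dt_stable j _ hyG e he) hm)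
      calc ⁅y * e⁻¹ * y⁻¹, m⁆ = (y * e * y⁻¹)⁻¹ * ⁅y * e * y⁻¹, m⁆⁻¹ * (y * e * y⁻¹) := by
            simp only [commutatorElement_def]; group
        _ = _ := by rw [mul_assoc, hcc.inv_left.eq, inv_mul_cancel_left]
    have hd2 : y * e⁻¹ * y⁻¹ ∈ Dt vs j := h.Dt_stable j _ hyG _ (inv_mem he)
    have hcom : Commute e ⁅y * e⁻¹ * y⁻¹, m⁆ :=
      (mem_centralizer_iff.1 he.2 _ (h.Dt_comm_Wt hj hd2 hm)).symm
    rw [show ⁅e, y⁆ = e * (y * e⁻¹ * y⁻¹) by rw [commutatorElement_def]; group, mul_comm', hcom.eq,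
      mul_inv_cancel_right, hf, h.conj_formula hj he hy hm, ← ha, ← hc, ← hv, ← ha', mul_inv_rev, mul_inv_rev,
      inv_inv, mul_assoc, mul_assoc, h.Wt_comm hj' (hv ▸ (Wt_stable j).comm_right hyG (hc ▸ h.Dt_comm_Wt hj he
        ((Wt_stable _).comm_right hyG hm)) : v ∈ Wt vs j) (hc ▸ h.Dt_comm_Wt hj he ((Wt_stable _).comm_right hyG hm))]
    rw [← mul_assoc, ← mul_assoc, h.Wt_comm hj' (inv_mem haW) (inv_mem ha'W)]
    have hcvW : c * v ∈ Wt vs j := mul_mem (hc ▸ h.Dt_comm_Wt hj he ((Wt_stable _).comm_right hyG hm))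
      (hv ▸ (Wt_stable j).comm_right hyG (hc ▸ h.Dt_comm_Wt hj he ((Wt_stable _).comm_right hyG hm)))
    rw [show a'⁻¹ * a⁻¹ * (c * v) * a = a'⁻¹ * (a⁻¹ * ((c * v) * a)) by group, h.Wt_comm hj' hcvW haW,
      inv_mul_cancel_left]
  obtain ⟨d1, hd1⟩ : ∃ d1, d1 = ⁅d, x⁆ := ⟨_, rfl⟩
  have hd1D : d1 ∈ Dt vs j := hd1 ▸ hDn.comm_left hxG hdD
  have ha1 : ⁅d1, w⁆ = ⁅x, a⁆⁻¹ * (⁅x, c⁆ * c) := by rw [hd1, hone hdD hx w hw, ← ha, ← hc]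
  have hc1 : ⁅d1, ⁅x', w⁆⁆ = ⁅x, c'⁆⁻¹ := by
    rw [hd1, hone hdD hx _ hu', h.Wt_quad hj hx' hx hw, ← hc', commutatorElement_one_right,
      commutatorElement_one_right, one_mul, mul_one]
  rw [← hd1, hone hd1D hx' w hw, ha1, hc1]
  have hxa := (Wt_stable j).comm_right hxG haW
  have hxc := (Wt_stable j).comm_right hxG hcW
  have hxc' := (Wt_stable j).comm_right hxG hc'W
  rw [h.Wt_comm_mul hj' hxG' (inv_mem hxa) (mul_mem hxc hcW), h.Wt_comm_mul hj' hxG' hxc hcW,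
    h.Wt_comm_inv hj' hxG' hxa, h.Wt_comm_inv hj' hxG' hxc', h.Wt_quad hj' hx hx' haW,
    h.Wt_quad hj' hx hx' hcW, h.Wt_quad hj' hx hx' hc'W, inv_one, one_mul, one_mul, one_mul, ← mul_inv_rev]
  refine inv_mem ?_
  -- polarization
  have hprod : ∀ m ∈ Wt vs (j + 1), ⁅x * x', m⁆ = ⁅x', m⁆ * ⁅x, m⁆ := fun m hm => by
    rw [mul_comm', (show Commute x ⁅x', m⁆ from comm_one_iff.1 (h.Wt_quad hj hx' hx hm)).eq, mul_inv_cancel_right]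
  have hcc' : ⁅d, ⁅x * x', w⁆⁆ = c' * c := by
    rw [hprod w hw, comm_mul, ← hc', ← hc, h.Wt_comm hj hu' (Wt_mono (Nat.le_succ j) hcW), mul_inv_cancel_right]
  have h12 := hsq (x * x') (mul_mem hx hx') w hw
  rw [hcc', hprod _ (Wt_mono (Nat.le_succ j) (mul_mem hc'W hcW)), h.Wt_comm_mul hj' hxG' hc'W hcW,
    h.Wt_comm_mul hj' hxG hc'W hcW] at h12
  have h11 : ⁅x, c⁆ ∈ B' := hc ▸ hsq x hx w hw
  have h22 : ⁅x', c'⁆ ∈ B' := hc' ▸ hsq x' hx' w hw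
  have := mul_mem (mul_mem (inv_mem h22) h12) (inv_mem h11)
  rw [h.Wt_comm hj' hxc' ((Wt_stable j).comm_right hxG' hcW)]
  convert this using 1
  simp only [commutatorElement_def]
  group

end CfsgLib.CommonCore
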