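import Cfsg.Agent.Lib.LocalEven.CommonCore.Control

/-!
# A common core: the focal subgroup as a product of two pieces
-/

set_option autoImplicit false
set_option linter.all false

namespace CfsgLib.CommonCore

open Subgroup Cfsg CfsgLib.Transfer3
open CfsgLib.Techniques (inducedSet IsSylowSub isSylowSub_sylow familyControlsTransfer_at exists_mul_normalizer)
open scoped commutatorElement

universe u

variable {G : Type u} [Group G] [Finite G] {p : ℕ} [Fact p.Prime]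

/-- The normalizer of two subgroups normalizes their commutator. -/
theorem mem_normalizer_comm {A B : Subgroup G} {x : G} (hA : x ∈ normalizer (A : Set G))
    (hB : x ∈ normalizer (B : Set G)) : x ∈ normalizer ((⁅A, B⁆ : Subgroup G) : Set G) := by
  refine CfsgLib.Techniques.mem_normalizer_of_map_conj_eq ?_
  rw [Subgroup.map_commutator, CfsgLib.LocalEven.mem_normalizer_conj_iff.1 hA,
    CfsgLib.LocalEven.mem_normalizer_conj_iff.1 hB]

/-- The focal subgroup of the normalizer of a normal subgroup of the Sylow subgroup's centralizer. -/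
theorem normalizer_part (P : Sylow p G) {C N R : Subgroup G} (hPC : (P : Subgroup G) ≤ C) (hCN : C ≤ N)
    (hNC : N ≤ normalizer (C : Set G)) (hR : normalizer ((P : Subgroup G) : Set G) ≤ R) :
    (P : Subgroup G) ⊓ ⁅N, N⁆ ≤ ((P : Subgroup G) ⊓ ⁅C, C⁆) ⊔ ((P : Subgroup G) ⊓ ⁅R, R⁆) := by
  classical
  obtain ⟨S, hS⟩ : ∃ S, S = (P : Subgroup G) := ⟨_, rfl⟩
  have hSP : IsPGroup p S := hS ▸ P.2
  obtain ⟨B, hB⟩ : ∃ B, B = S ⊓ ⁅R, R⁆ := ⟨_, rfl⟩
  obtain ⟨D, hD⟩ : ∃ D, D = ⁅C, C⁆ := ⟨_, rfl⟩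
  rw [← hS, ← hD, ← hB]
  have hSC : S ≤ C := hS ▸ hPC
  have hDC : D ≤ C := hD ▸ CfsgLib.PLocal.commutator_le_of_le_normalizer le_normalizer le_rfl
  have hCD : C ≤ normalizer (D : Set G) := hD ▸ normalizer_commutator_ge_left C C
  haveI : (D.subgroupOf C).Normal := ⟨fun x hx g => (mem_normalizer_iff.1 (hCD g.2) _).1 hx⟩
  obtain ⟨π, hπ⟩ : ∃ π, π = QuotientGroup.mk' (D.subgroupOf C) := ⟨_, rfl⟩
  have hπ1 : ∀ {c : ↥C}, π c = 1 ↔ (c : G) ∈ D := fun {c} => hπ ▸ QuotientGroup.eq_one_iff c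
  have hcomm : ∀ a b, Commute (π a) (π b) := fun a b => by
    rw [commute_iff_eq, ← commutatorElement_eq_one_iff_mul_comm, ← map_commutatorElement, hπ1]
    exact hD ▸ commutator_mem_commutator a.2 b.2
  obtain ⟨n, hn⟩ : ∃ n, n = ordCompl[p] (Nat.card ↥C) := ⟨_, rfl⟩
  have hnp : ∀ c ∈ C, IsPGroup p (zpowers (c ^ n)) := fun c hc => by
    have h1 : (c ^ n) ^ ordProj[p] (Nat.card ↥C) = 1 := by
      rw [← pow_mul, hn, mul_comm, Nat.ordProj_mul_ordCompl_eq_self]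
      exact congrArg Subtype.val (pow_card_eq_one' (G := ↥C) (x := ⟨c, hc⟩))
    obtain ⟨k, -, hk⟩ := (Nat.dvd_prime_pow (Fact.out : p.Prime)).1 (orderOf_dvd_of_pow_eq_one h1)
    exact IsPGroup.of_card (n := k) (by rw [Nat.card_zpowers, hk])
  obtain ⟨Rs, hRs⟩ : ∃ Rs : Subgroup ↥C, Rs = ((B.subgroupOf C).map π).comap
      ((⟨⟨fun c => π c ^ n, by simp⟩, fun a b => by simp only [map_mul]; exact (hcomm a b).mul_pow n⟩ :
        ↥C →* ↥C ⧸ D.subgroupOf C)) := ⟨_, rfl⟩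
  have hRs' : ∀ {c : ↥C}, c ∈ Rs ↔ ∃ b : ↥C, (b : G) ∈ B ∧ π b = π c ^ n := fun {c} => by
    rw [hRs, mem_comap, mem_map]; rfl
  have hSsy : IsSylowSub p S C := hS ▸ (isSylowSub_sylow P).of_le hPC le_top
  -- elements normalizing `S`
  have hX : ∀ x ∈ N, x ∈ normalizer (S : Set G) → ∀ c : ↥C, (⁅(c : G), x⁆ ∈ C) → ∀ h : ⁅(c : G), x⁆ ∈ C,
      (⟨_, h⟩ : ↥C) ∈ Rs := by
    intro x hx hxS c _ h
    obtain ⟨k, hk, hks⟩ : ∃ k ∈ C, k⁻¹ * (c : G) ^ n * k ∈ S := by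
      obtain ⟨k, hk, hle⟩ := hSsy.exists_conj_le (zpowers_le.2 (pow_mem c.2 n)) (hnp _ c.2)
      refine ⟨k⁻¹, inv_mem hk, ?_⟩
      have := hle ⟨_, mem_zpowers _, rfl⟩
      simpa using this
    obtain ⟨s, hs⟩ : ∃ s, s = k⁻¹ * (c : G) ^ n * k := ⟨_, rfl⟩
    rw [← hs] at hks
    have hsS : ⁅s, x⁆ ∈ S := by
      rw [commutatorElement_def, mul_assoc, mul_assoc, ← mul_assoc x]
      exact mul_mem hks ((mem_normalizer_iff.1 hxS _).1 (inv_mem hks))
    have hsB : ⁅s, x⁆ ∈ B := hB ▸ ⟨hsS, commutator_mem_commutator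
      (hR (hS ▸ le_normalizer hks)) (hR (hS ▸ hxS))⟩
    refine hRs'.2 ⟨⟨_, hSC hsS⟩, hsB, ?_⟩
    have hxc : ∀ d ∈ C, x * d * x⁻¹ ∈ C := fun d hd => (mem_normalizer_iff.1 (hNC hx) d).1 hd
    have hxD : ∀ d ∈ D, x * d * x⁻¹ ∈ D := by
      intro d hd
      have h1 : x ∈ normalizer (D : Set G) := hD ▸ mem_normalizer_comm (hNC hx) (hNC hx)
      exact (mem_normalizer_iff.1 h1 d).1 hd
    let α : ↥C →* ↥C :=
      { toFun := fun d => ⟨x * d * x⁻¹, hxc d d.2⟩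
        map_one' := Subtype.ext (by simp)
        map_mul' := fun a b => Subtype.ext (by
          show x * ((a : G) * b) * x⁻¹ = x * a * x⁻¹ * (x * b * x⁻¹)
          group) }
    have hα : ∀ {a b : ↥C}, π a = π b → π (α a) = π (α b) := fun {a b} hab => by
      rw [← inv_mul_eq_one, ← map_inv, ← map_mul, hπ1] at hab ⊢
      rw [← map_inv, ← map_mul]
      exact hxD _ hab
    have e1 : (⟨_, h⟩ : ↥C) = c * α c⁻¹ := Subtype.ext (by
      show ⁅(c : G), x⁆ = (c : G) * (x * (c : G)⁻¹ * x⁻¹)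
      rw [commutatorElement_def]; group)
    have hsC : s ∈ C := hSC hks
    have e2 : (⟨⁅s, x⁆, hSC hsS⟩ : ↥C) = ⟨s, hsC⟩ * α ⟨s, hsC⟩⁻¹ := Subtype.ext (by
      show ⁅s, x⁆ = s * (x * s⁻¹ * x⁻¹)
      rw [commutatorElement_def]; group)
    have e3 : π ⟨s, hsC⟩ = π (c ^ n) := by
      have : (⟨s, hsC⟩ : ↥C) = (⟨k, hk⟩ : ↥C)⁻¹ * c ^ n * ⟨k, hk⟩ := Subtype.ext hs
      rw [this, map_mul, map_mul, map_inv, (hcomm ⟨k, hk⟩ (c ^ n)).inv_left.eq, inv_mul_cancel_right]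
    rw [e1, e2, map_mul, map_mul, (hcomm c (α c⁻¹)).mul_pow, ← map_pow, ← map_pow, ← map_pow, inv_pow, e3]
    congr 1
    exact hα (by rw [map_inv, map_inv, e3])
  have hY : ∀ y : ↥C, (y : G) ∈ normalizer (S : Set G) → (y : G) ∈ ⁅R, R⁆ → y ∈ Rs := by
    intro y hy hyR
    refine hRs'.2 ⟨y ^ n, ?_, by rw [map_pow]⟩
    have hyS : (y : G) ^ n ∈ S := by
      have hp2 : IsPGroup p ↥(zpowers ((y : G) ^ n) ⊔ S) :=
        (hnp _ y.2).to_sup_of_normal_right' hSP (zpowers_le.2 (pow_mem hy n))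
      have := P.3 hp2 (hS ▸ le_sup_right)
      rw [hS, ← this]
      exact mem_sup_left (mem_zpowers _)
    exact hB ▸ ⟨hyS, pow_mem hyR n⟩
  obtain ⟨X, hXdef⟩ : ∃ X, X = N ⊓ normalizer (S : Set G) := ⟨_, rfl⟩
  obtain ⟨T, hT⟩ : ∃ T, T = ⁅C, N⁆ := ⟨_, rfl⟩
  have hTC : T ≤ C := hT ▸ CfsgLib.PLocal.commutator_le_of_le_normalizer hNC le_rfl
  have hNT : N ≤ normalizer (T : Set G) := fun x hx =>
    hT ▸ mem_normalizer_comm (hNC hx) (le_normalizer hx)
  have hfr : ∀ x ∈ N, ∃ k ∈ C, ∃ m ∈ X, x = k * m := fun x hx => by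
    obtain ⟨k, hk, m, hm, hmS, e⟩ := exists_mul_normalizer hSsy hx hNC hCN
    exact ⟨k, hk, m, hXdef ▸ ⟨hm, hmS⟩, e⟩
  have hTR : T.subgroupOf C ≤ Rs := by
    have hle : T ≤ Rs.map C.subtype := by
      rw [hT, commutator_le]
      intro c hc m hm
      obtain ⟨k, hk, x, hx, rfl⟩ := hfr m hm
      rw [hXdef] at hx
      have hx1 : ⁅c, x⁆ ∈ C := hTC (hT ▸ commutator_mem_commutator hc hx.1)
      rw [comm_mul]
      refine mul_mem ⟨⁅(⟨c, hc⟩ : ↥C), ⟨k, hk⟩⁆, ?_, rfl⟩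
        ⟨⟨k, hk⟩ * ⟨⁅c, x⁆, hx1⟩ * (⟨k, hk⟩ : ↥C)⁻¹, ?_, rfl⟩
      · refine hRs'.2 ⟨1, one_mem _, ?_⟩
        rw [map_one, map_commutatorElement, commutatorElement_eq_one_iff_mul_comm.2 (hcomm _ _).eq, one_pow]
      · obtain ⟨b, hb, hb'⟩ := hRs'.1 (hX x hx.1 hx.2 ⟨c, hc⟩ hx1 hx1)
        refine hRs'.2 ⟨b, hb, ?_⟩
        rw [hb', map_mul, map_mul, map_inv, (hcomm _ _).eq, mul_inv_cancel_right]
    intro c hc
    obtain ⟨r, hr, e⟩ := hle hc
    exact Subtype.ext e ▸ hr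
  have hNN : ⁅N, N⁆ ≤ T ⊔ ⁅X, X⁆ := by
    obtain ⟨H, hH⟩ : ∃ H, H = T ⊔ ⁅X, X⁆ := ⟨_, rfl⟩
    rw [← hH]
    have hXN : X ≤ N := hXdef ▸ inf_le_left
    have hHN : H ≤ N := hH ▸ sup_le (hTC.trans hCN)
      ((commutator_mono hXN hXN).trans (CfsgLib.PLocal.commutator_le_of_le_normalizer le_normalizer le_rfl))
    have hconj : ∀ c ∈ C, ∀ a ∈ H, c * a * c⁻¹ ∈ H := fun c hc a ha => by
      have h1 : ⁅c, a⁆ ∈ H := hH ▸ mem_sup_left (hT ▸ commutator_mem_commutator hc (hHN ha))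
      have := mul_mem h1 ha
      rwa [commutatorElement_def, inv_mul_cancel_right] at this
    refine commutator_le.2 fun a ha b hb => ?_
    obtain ⟨c, hc, x, hx, rfl⟩ := hfr a ha
    obtain ⟨c', hc', x', hx', rfl⟩ := hfr b hb
    have hb' : c' * x' ∈ N := mul_mem (hCN hc') (hXN hx')
    rw [mul_comm', comm_mul x]
    refine mul_mem (hconj c hc _ (mul_mem ?_ (hconj c' hc' _ ?_))) ?_
    · rw [← commutatorElement_inv]
      exact inv_mem (hH ▸ mem_sup_left (hT ▸ commutator_mem_commutator hc' (hXN hx)))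
    · exact hH ▸ mem_sup_right (commutator_mem_commutator hx hx')
    · exact hH ▸ mem_sup_left (hT ▸ commutator_mem_commutator hc hb')
  rintro g ⟨hgS, hg⟩
  have hgC : g ∈ C := hSC hgS
  have hXn : ⁅X, X⁆ ≤ normalizer (T : Set G) :=
    (commutator_mono (hXdef ▸ inf_le_left) (hXdef ▸ inf_le_left)).trans
      ((CfsgLib.PLocal.commutator_le_of_le_normalizer le_normalizer le_rfl).trans hNT)
  have hg' := hNN hg
  rw [← SetLike.mem_coe, Subgroup.coe_mul_of_right_le_normalizer_left _ _ hXn] at hg'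
  obtain ⟨r, hr, y, hy, rfl⟩ := hg'
  have hyC : y ∈ C := by
    have := mul_mem (inv_mem (hTC hr)) hgC
    rwa [inv_mul_cancel_left] at this
  have hXS : X ≤ normalizer (S : Set G) := hXdef ▸ inf_le_right
  have hyn : y ∈ normalizer (S : Set G) :=
    (CfsgLib.PLocal.commutator_le_of_le_normalizer (le_normalizer (H := normalizer (S : Set G))) le_rfl)
      (commutator_mono hXS hXS hy)
  have hmem : (⟨r * y, hgC⟩ : ↥C) ∈ Rs := by
    have : (⟨r * y, hgC⟩ : ↥C) = ⟨r, hTC hr⟩ * ⟨y, hyC⟩ := rfl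
    rw [this]
    exact mul_mem (hTR hr) (hY _ hyn (commutator_mono (hXS.trans (hS ▸ hR)) (hXS.trans (hS ▸ hR)) hy))
  obtain ⟨b, hb, hbg⟩ := hRs'.1 hmem
  obtain ⟨k, hk⟩ := IsPGroup.iff_card.1 hSP
  have hcop : Nat.Coprime n (p ^ k) := hn ▸ (Nat.coprime_ordCompl Fact.out Nat.card_pos.ne').symm.pow_right k
  obtain ⟨m, hm⟩ : ∃ m : ℕ, (r * y) ^ (n * m) = r * y := by
    obtain ⟨m, hm⟩ := exists_pow_eq_self_of_coprime (x := r * y) (n := n) (hcop.coprime_dvd_right (by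
      rw [← hk]
      exact orderOf_dvd_of_pow_eq_one (congrArg Subtype.val (pow_card_eq_one' (G := ↥S) (x := ⟨_, hgS⟩)))))
    exact ⟨m, by rwa [pow_mul]⟩
  have hbm : π (b ^ m) = π ⟨r * y, hgC⟩ := by
    rw [map_pow, hbg, ← pow_mul, ← map_pow]
    congr 1
    exact Subtype.ext hm
  rw [← inv_mul_eq_one, ← map_inv, ← map_mul, hπ1] at hbm
  have hbB : (b : G) ^ m ∈ B := pow_mem hb m
  have hbS : (b : G) ^ m ∈ S := (hB.le hbB).1
  have e : r * y = (b : G) ^ m * (((b : G) ^ m)⁻¹ * (r * y)) := by group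
  show r * y ∈ _
  rw [e]
  exact mul_mem (mem_sup_right hbB) (mem_sup_left (Subgroup.mem_inf.2 ⟨S.mul_mem (S.inv_mem hbS) hgS, hbm⟩))

/-- The focal subgroup is generated by the part of the centralizer of the centre and the part of the normalizer
of the common core. -/
theorem focal_le (hp : p ≠ 2) (P : Sylow p G) :
    (P : Subgroup G) ⊓ ⁅(⊤ : Subgroup G), ⊤⁆ ≤
      ((P : Subgroup G) ⊓ ⁅centralizer (((P : Subgroup G) ⊓ centralizer ((P : Subgroup G) : Set G) : Subgroup G) : Set G),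
        centralizer (((P : Subgroup G) ⊓ centralizer ((P : Subgroup G) : Set G) : Subgroup G) : Set G)⁆) ⊔
      ((P : Subgroup G) ⊓ ⁅normalizer (inducedFunctor (G := G) (jFun (coreK p)) (P : Subgroup G) : Set G),
        normalizer (inducedFunctor (G := G) (jFun (coreK p)) (P : Subgroup G) : Set G)⁆) := by
  rw [familyControlsTransfer_at (CfsgLib.Techniques.inducedSet_conjugacy (family_func hp) G)
    (family_control hp G) (isSylowSub_sylow P)]
  refine iSup₂_le ?_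
  rintro _ ⟨W, hW, rfl⟩
  simp only [top_inf_eq]
  rcases hW with rfl | rfl
  · rw [cFun_induced]
    refine normalizer_part P (fun s hs => mem_centralizer_iff.2 fun z hz =>
      (mem_centralizer_iff.1 hz.2 s hs).symm) (centralizer_le_normalizer _)
      (CfsgLib.Transfer.normalizer_le_normalizer_centralizer _) ?_
    exact CfsgLib.Techniques.normalizer_le_normalizer_functor
      (CfsgLib.Techniques.inducedFunctor_isConjugacyFunctor (family_func hp _ (Or.inr rfl)) G) P.2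
  · exact le_sup_right

end CfsgLib.CommonCore
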